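import Groth.Agent.IdealTransLib.Kappa
import Groth.Agent.RDerLib.LeftExact
import Mathlib.Algebra.Homology.ShortComplex.ExactFunctor

/-! Derived functors of `Γ_I` and `D_I`. -/

set_option autoImplicit false
set_option linter.style.haveILetI false
set_option maxHeartbeats 800000
universe u

noncomputable section

open CategoryTheory Limits Opposite LocCohLib

namespace IdealTransLib

variable {R : Type u} [CommRing R] (I : Ideal R)

instance preservesFiniteLimits_idealTransform : PreservesFiniteLimits (LocCoh.idealTransform I) := by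
  rw [Functor.preservesFiniteLimits_iff_forall_exact_map_and_mono]
  intro S hS
  have hf := (ModuleCat.mono_iff_injective _).1 hS.mono_f
  have hfg := (ShortComplex.ShortExact.moduleCat_exact_iff_function_exact _).1 hS.exact
  exact ⟨(ShortComplex.ShortExact.moduleCat_exact_iff_function_exact _).2 (exact_Dmap (I := I) hf hfg),
    (ModuleCat.mono_iff_injective _).2 (Dmap_injective_of_injective (I := I) hf)⟩

instance preservesFiniteLimits_gammaI : PreservesFiniteLimits (DRing.gammaI I) := by
  rw [Functor.preservesFiniteLimits_iff_forall_exact_map_and_mono]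
  intro S hS
  have hf := (ModuleCat.mono_iff_injective _).1 hS.mono_f
  have hfg := (ShortComplex.ShortExact.moduleCat_exact_iff_function_exact _).1 hS.exact
  refine ⟨(ShortComplex.moduleCat_exact_iff _).2 fun (y : DRing.torsionSub I S.X₂) hy => ?_,
    (ModuleCat.mono_iff_injective _).2 fun (a b : DRing.torsionSub I S.X₁) h =>
      Subtype.ext (hf (congrArg Subtype.val h))⟩
  obtain ⟨x, hx⟩ := (hfg y.1).1 (congrArg Subtype.val hy)
  refine ⟨(⟨x, ?_⟩ : DRing.torsionSub I S.X₁), Subtype.ext hx⟩
  obtain ⟨n, hn⟩ := y.2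
  exact ⟨n, fun a ha => hf (by rw [map_smul, hx, map_zero]; exact hn a ha)⟩

/-- The delta functor of right derived functors. -/
def rdDelta (F : ModuleCat.{u} R ⥤ ModuleCat.{u} R) [F.Additive] :
    DeltaFun (ModuleCat.{u} R) (ModuleCat.{u} R) where
  F i := F.rightDerived i
  preservesZero i := inferInstance
  δ {S} hS i := (Groth.Agent.RDerLib.derivedLES F).δ S hS i (i + 1) rfl
  δ_natural hS hS' φ i := ((Groth.Agent.RDerLib.derivedLES F).δ_natural hS hS' φ i (i + 1) rfl).symm
  map_comp_δ hS i := (Groth.Agent.RDerLib.derivedLES F).comp_δ _ hS i (i + 1) rfl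
  δ_comp_map hS i := (Groth.Agent.RDerLib.derivedLES F).δ_comp _ hS i (i + 1) rfl
  exact₁ hS i := (Groth.Agent.RDerLib.derivedLES F).exact₁ _ hS i (i + 1) rfl
  exact₂ hS i := (Groth.Agent.RDerLib.derivedLES F).exact₂ _ hS i
  exact₃ hS i := (Groth.Agent.RDerLib.derivedLES F).exact₃ _ hS i (i + 1) rfl
  mono₀ hS := Groth.Agent.RDerLib.mono_map_zero F hS

theorem rdDelta_effaceable (F : ModuleCat.{u} R ⥤ ModuleCat.{u} R) [F.Additive] :
    (rdDelta F).Effaceable :=
  fun E hE i => haveI := hE; Functor.isZero_rightDerived_obj_injective_succ F i E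

/-- `R^iΓ_I ≅ H^i_I`. -/
def rdGammaIso (i : ℕ) : (DRing.gammaI I).rightDerived i ≅ localCohomology I i :=
  DeltaFun.isoOfZero (T := rdDelta (DRing.gammaI I)) (T' := lcDelta I) (rdDelta_effaceable _)
    (lcDelta_effaceable I) ((DRing.gammaI I).rightDerivedZeroIsoSelf ≪≫ (lcZeroIso I).symm) i

/-- The system `I^n`. -/
abbrev powSystem : ℕᵒᵖ ⥤ ModuleCat.{u} R := localCohomology.idealPowersDiagram I ⋙ LocCoh.idealModFunctor

/-- Its resolutions. -/
def powRes : ResSystem (powSystem I) := funSystem _

/-- `colim Ext^i(I^n, -)` as the cohomology of a complex. -/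
def extIso (i : ℕ) : LocCoh.extTransform I i ≅ (powRes I).coh i := (powRes I).colimExtIso i

/-- The delta functor `colim Ext^i(I^n, -)`. -/
def extDelta : DeltaFun (ModuleCat.{u} R) (ModuleCat.{u} R) :=
  (powRes I).deltaFun.ofIso (fun i => LocCoh.extTransform I i) (fun i => (extIso I i).symm)

theorem extDelta_effaceable : (extDelta I).Effaceable :=
  DeltaFun.effaceable_ofIso (powRes I).effaceable _ _

/-- In degree zero it is the ideal transform. -/
def extZeroIso : LocCoh.extTransform I 0 ≅ LocCoh.idealTransform I :=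
  extIso I 0 ≪≫ (powRes I).cohZeroIso.symm ≪≫ (colimitIsoFlipCompColim _).symm

section Shift

variable {C D : Type*} [Category C] [Abelian C] [EnoughInjectives C] [Category D] [Abelian D]
  {T T' : DeltaFun C D}

/-- The comparison in the next degree, shifted. -/
def succApp' (h : T.Effaceable) {i j : ℕ} (α : T.F i ⟶ T'.F j) (M : C) :
    (T.F (i + 1)).obj (DeltaFun.under C M).X₁ ⟶ (T'.F (j + 1)).obj (DeltaFun.under C M).X₁ :=
  (DeltaFun.succIsColimit h M i).desc
    (CokernelCofork.ofπ (α.app _ ≫ T'.δ (DeltaFun.under_shortExact M) j) (by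
      rw [← Category.assoc, α.naturality, Category.assoc, T'.map_comp_δ, comp_zero]))

theorem δ_succApp' (h : T.Effaceable) {i j : ℕ} (α : T.F i ⟶ T'.F j) (M : C) :
    T.δ (DeltaFun.under_shortExact M) i ≫ succApp' h α M = α.app _ ≫ T'.δ (DeltaFun.under_shortExact M) j :=
  (DeltaFun.succIsColimit h M i).fac _ WalkingParallelPair.one

/-- Extending by one degree, shifted. -/
def succHom' (h : T.Effaceable) {i j : ℕ} (α : T.F i ⟶ T'.F j) : T.F (i + 1) ⟶ T'.F (j + 1) where
  app M := succApp' h α M
  naturality M N g := by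
    apply Cofork.IsColimit.hom_ext (DeltaFun.succIsColimit h M i)
    show T.δ (DeltaFun.under_shortExact M) i ≫ (T.F (i + 1)).map (DeltaFun.underMap g).τ₁ ≫ succApp' h α N =
      T.δ (DeltaFun.under_shortExact M) i ≫ succApp' h α M ≫ (T'.F (j + 1)).map (DeltaFun.underMap g).τ₁
    rw [reassoc_of% (T.δ_natural _ (DeltaFun.under_shortExact N) (DeltaFun.underMap g) i), δ_succApp',
      reassoc_of% (δ_succApp' h α M), T'.δ_natural _ (DeltaFun.under_shortExact N) (DeltaFun.underMap g) j]
    exact α.naturality_assoc (DeltaFun.underMap g).τ₃ _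

end Shift

theorem isIso_succHom' {T T' : DeltaFun (ModuleCat.{u} R) (ModuleCat.{u} R)} (h : T.Effaceable)
    (h' : T'.Effaceable) {i j : ℕ} (hj : 0 < j) (α : T.F i ⟶ T'.F j)
    (hs : ∀ Q : ModuleCat.{u} R, Function.Surjective (α.app Q).hom)
    (hk : ∀ (M : ModuleCat.{u} R) (x : (T.F i).obj (DeltaFun.under (ModuleCat.{u} R) M).X₃), (α.app _).hom x = 0 →
      (T.δ (DeltaFun.under_shortExact M) i).hom x = 0) : IsIso (succHom' h α) := by
  refine @NatIso.isIso_of_isIso_app _ _ _ _ _ _ _ fun M => ?_
  have hS := DeltaFun.under_shortExact M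
  haveI hi : IsIso (T'.δ hS j) := by
    obtain ⟨j', rfl⟩ := Nat.exists_eq_add_of_le' hj
    have hE : Injective (DeltaFun.under (ModuleCat.{u} R) M).X₂ := inferInstanceAs (Injective (Injective.under M))
    exact T'.isIso_δ hS _ (h' _ hE _) (h' _ hE _)
  haveI : Epi (T.δ hS i) := T.epi_δ hS i (h _ (inferInstanceAs (Injective (Injective.under M))) i)
  have hb := ConcreteCategory.bijective_of_isIso (T'.δ hS j)
  have heq : ∀ x, (succApp' h α M).hom ((T.δ hS i).hom x) = (T'.δ hS j).hom ((α.app _).hom x) := fun x =>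
    ConcreteCategory.congr_hom (δ_succApp' h α M) x
  have hep := (ModuleCat.epi_iff_surjective _).1 ‹Epi (T.δ hS i)›
  refine (ConcreteCategory.isIso_iff_bijective _).2 ⟨?_, fun y => ?_⟩
  · show Function.Injective (succApp' h α M).hom
    rw [injective_iff_map_eq_zero]
    intro z hz
    obtain ⟨x, rfl⟩ := hep z
    refine hk M x (hb.1 ?_)
    exact ((heq x).symm.trans hz).trans (map_zero (T'.δ hS j).hom).symm
  · obtain ⟨w, hw⟩ := hb.2 y
    obtain ⟨x, hx⟩ := hs _ w
    refine ⟨(T.δ hS i).hom x, ?_⟩
    exact ((heq x).trans (congrArg _ hx)).trans hw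

/-- Effaceable delta functors extending `D_I` are shifted local cohomology. -/
theorem nonempty_shiftIso {T : DeltaFun (ModuleCat.{u} R) (ModuleCat.{u} R)} (h : T.Effaceable)
    (e : T.F 0 ≅ LocCoh.idealTransform I) : ∀ i, 1 ≤ i → Nonempty (T.F i ≅ localCohomology I (i + 1)) := by
  intro i hi
  induction i, hi using Nat.le_induction with
  | base =>
    let α : T.F 0 ⟶ (lcDelta I).F 1 := e.hom ≫ kappa I
    have : IsIso (succHom' h α) := by
      refine isIso_succHom' h (lcDelta_effaceable I) one_pos α (fun Q => ?_) fun M x hx => ?_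
      · exact (kappa_surjective (I := I) Q).comp (ConcreteCategory.bijective_of_isIso (e.hom.app Q)).2
      · have h1 : (e.hom.app _).hom x ∈ LinearMap.ker (kappaHom I (DeltaFun.under (ModuleCat.{u} R) M).X₃) := hx
        rw [ker_kappa] at h1
        obtain ⟨q, hq⟩ := h1
        obtain ⟨v, rfl⟩ := π_surjective M q
        obtain ⟨w, hw⟩ := (ConcreteCategory.bijective_of_isIso (e.hom.app (seq M).X₂)).2 (LocCoh.toDT I _ v)
        have h2 : ((T.F 0).map (seq M).g).hom w = x := by
          refine (ConcreteCategory.bijective_of_isIso (e.hom.app _)).1 ?_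
          refine Eq.trans ?_ hq
          refine (ConcreteCategory.congr_hom (e.hom.naturality (seq M).g) w).trans ?_
          exact (congrArg (Dmap I (seq M).g.hom) hw).trans (Dmap_toDT _ _)
        rw [← h2]
        exact ConcreteCategory.congr_hom (T.map_comp_δ (DeltaFun.under_shortExact M) 0) w
    exact ⟨@asIso _ _ _ _ (succHom' h α) this⟩
  | succ i hi ih =>
    obtain ⟨a⟩ := ih
    let α : T.F i ⟶ (lcDelta I).F (i + 1) := a.hom
    have : IsIso (succHom' h α) := by
      refine isIso_succHom' h (lcDelta_effaceable I) (Nat.succ_pos _) α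
        (fun Q => (ConcreteCategory.bijective_of_isIso (a.hom.app Q)).2) fun M x hx => ?_
      have : x = 0 := (ConcreteCategory.bijective_of_isIso (a.hom.app _)).1
        (hx.trans (map_zero (a.hom.app _).hom).symm)
      rw [this]
      exact map_zero _
    exact ⟨@asIso _ _ _ _ (succHom' h α) this⟩

theorem nonempty_extTransformIso (i : ℕ) (hi : 1 ≤ i) :
    Nonempty (LocCoh.extTransform I i ≅ localCohomology I (i + 1)) :=
  nonempty_shiftIso I (extDelta_effaceable I) (extZeroIso I) i hi

theorem nonempty_rdTransformIso (i : ℕ) (hi : 1 ≤ i) :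
    Nonempty ((LocCoh.idealTransform I).rightDerived i ≅ localCohomology I (i + 1)) :=
  nonempty_shiftIso I (T := rdDelta (LocCoh.idealTransform I)) (rdDelta_effaceable _)
    (LocCoh.idealTransform I).rightDerivedZeroIsoSelf i hi

end IdealTransLib
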