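import Groth.Agent.IdealTransLib.Lift
import Groth.Agent.LocCohLib.CohDim

/-! The connecting transformation `D_I ⟶ H^1_I`. -/

set_option autoImplicit false
set_option linter.style.haveILetI false
set_option maxHeartbeats 400000
universe u

noncomputable section

open CategoryTheory Limits Opposite

namespace IdealTransLib

variable {R : Type u} [CommRing R] {I : Ideal R} {M N P : Type u}
  [AddCommGroup M] [Module R M] [AddCommGroup N] [Module R N] [AddCommGroup P] [Module R P]

theorem toDT_surjective_of_baer (h : Module.Baer R M) : Function.Surjective (LocCoh.toDT I M) := fun x => by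
  obtain ⟨n, f, rfl⟩ := exists_mk x
  obtain ⟨g, hg⟩ := h (I ^ n) f
  refine ⟨g 1, ?_⟩
  rw [toDT_eq n]
  congr 1
  ext r
  show r.1 • g 1 = f r
  rw [← map_smul, smul_eq_mul, mul_one]
  exact hg r.1 r.2

theorem Dmap_injective_of_injective {f : M →ₗ[R] N} (hf : Function.Injective f) :
    Function.Injective (Dmap I f) := by
  rw [injective_iff_map_eq_zero]
  intro x hx
  obtain ⟨n, φ, rfl⟩ := exists_mk x
  rw [Dmap_mk, mk_eq_zero_iff] at hx
  obtain ⟨k, hk, he⟩ := hx
  exact mk_eq_zero_iff.2 ⟨k, hk, LinearMap.ext fun y => hf ((LinearMap.congr_fun he y).trans (map_zero f).symm)⟩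

theorem exact_Dmap {f : M →ₗ[R] N} {g : N →ₗ[R] P} (hf : Function.Injective f) (hfg : Function.Exact f g) :
    Function.Exact (Dmap I f) (Dmap I g) := by
  intro x
  constructor
  · intro hx
    obtain ⟨n, φ, rfl⟩ := exists_mk x
    rw [Dmap_mk, mk_eq_zero_iff] at hx
    obtain ⟨k, hk, he⟩ := hx
    refine ⟨mk k ((LinearEquiv.ofInjective f hf).symm.toLinearMap ∘ₗ
      (res φ hk).codRestrict (LinearMap.range f) fun y => (hfg _).1 (LinearMap.congr_fun he y)), ?_⟩
    rw [Dmap_mk, ← mk_res hk φ]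
    congr 1
    ext y
    exact congrArg Subtype.val ((LinearEquiv.ofInjective f hf).apply_symm_apply _)
  · rintro ⟨y, rfl⟩
    rw [← Dmap_comp]
    obtain ⟨n, φ, rfl⟩ := exists_mk y
    rw [Dmap_mk, show g ∘ₗ f = 0 from LinearMap.ext hfg.apply_apply_eq_zero, LinearMap.zero_comp, map_zero]

variable (I)

/-- The chosen embedding of `M` in an injective module. -/
abbrev seq (M : ModuleCat.{u} R) : ShortComplex (ModuleCat.{u} R) := LocCohLib.DeltaFun.under (ModuleCat.{u} R) M

/-- The embedding, typed on `M`. -/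
abbrev iot (M : ModuleCat.{u} R) : M →ₗ[R] (seq M).X₂ := (seq M).f.hom

theorem ι_injective (M : ModuleCat.{u} R) : Function.Injective (iot M) :=
  (ModuleCat.mono_iff_injective _).1 (LocCohLib.DeltaFun.under_shortExact M).mono_f

theorem π_surjective (M : ModuleCat.{u} R) : Function.Surjective (seq M).g.hom :=
  (ModuleCat.epi_iff_surjective _).1 (LocCohLib.DeltaFun.under_shortExact M).epi_g

theorem seq_exact (M : ModuleCat.{u} R) : Function.Exact (iot M) (seq M).g.hom :=
  (ShortComplex.ShortExact.moduleCat_exact_iff_function_exact _).1 (LocCohLib.DeltaFun.under_shortExact M).exact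

theorem baer_seq (M : ModuleCat.{u} R) : Module.Baer R (seq M).X₂ := by
  haveI : Injective (seq M).X₂ := inferInstanceAs (Injective (Injective.under M))
  exact Module.Baer.of_injective (Module.injective_module_of_injective_object R (seq M).X₂)

/-- Elements whose image is torsion. -/
abbrev pre (M : ModuleCat.{u} R) : Submodule R (seq M).X₂ :=
  (DRing.torsionSub I (seq M).X₃).comap (seq M).g.hom

theorem toDT_mem_range (M : ModuleCat.{u} R) (p : pre I M) :
    LocCoh.toDT I _ p.1 ∈ LinearMap.range (Dmap I (iot M)) := by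
  refine (exact_Dmap (ι_injective M) (seq_exact M) _).1 ?_
  rw [Dmap_toDT, ← LinearMap.mem_ker, ker_toDT]
  exact p.2

/-- The map to the ideal transform. -/
def theta (M : ModuleCat.{u} R) : pre I M →ₗ[R] LocCoh.DT I M :=
  (LinearEquiv.ofInjective _ (Dmap_injective_of_injective (I := I) (ι_injective M))).symm.toLinearMap ∘ₗ
    (LocCoh.toDT I _ ∘ₗ (pre I M).subtype).codRestrict _ (toDT_mem_range I M)

theorem theta_spec (M : ModuleCat.{u} R) (p : pre I M) :
    Dmap I (iot M) (theta I M p) = LocCoh.toDT I _ p.1 :=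
  congrArg Subtype.val ((LinearEquiv.ofInjective _ (Dmap_injective_of_injective (I := I) (ι_injective M))).apply_symm_apply _)

theorem theta_surjective (M : ModuleCat.{u} R) : Function.Surjective (theta I M) := fun x => by
  obtain ⟨e, he⟩ := toDT_surjective_of_baer (baer_seq M) (Dmap I (iot M) x)
  have h0 : (seq M).g.hom e ∈ DRing.torsionSub I (seq M).X₃ := by
    rw [← ker_toDT, LinearMap.mem_ker, ← Dmap_toDT, he]
    exact (exact_Dmap (ι_injective M) (seq_exact M)).apply_apply_eq_zero x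
  exact ⟨⟨e, h0⟩, Dmap_injective_of_injective (ι_injective M) ((theta_spec I M ⟨e, h0⟩).trans he)⟩

/-- The map to `H^1`. -/
def chi (M : ModuleCat.{u} R) : pre I M →ₗ[R] (localCohomology I 1).obj M :=
  ((LocCohLib.lcDelta I).δ (LocCohLib.DeltaFun.under_shortExact M) 0).hom ∘ₗ
    ((LocCohLib.lcZeroIso I).inv.app (seq M).X₃).hom ∘ₗ ((seq M).g.hom.restrict fun _ h => h)

theorem ker_theta_le (M : ModuleCat.{u} R) : LinearMap.ker (theta I M) ≤ LinearMap.ker (chi I M) := by
  intro p hp
  have h1 : LocCoh.toDT I _ p.1 = 0 := by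
    rw [← theta_spec, LinearMap.mem_ker.1 hp, map_zero]
  have h2 : p.1 ∈ DRing.torsionSub I (seq M).X₂ := ker_toDT.le h1
  have h3 := ConcreteCategory.congr_hom ((LocCohLib.lcZeroIso I).inv.naturality (seq M).g)
    (⟨p.1, h2⟩ : DRing.torsionSub I (seq M).X₂)
  refine LinearMap.mem_ker.2 ?_
  show ((LocCohLib.lcDelta I).δ (LocCohLib.DeltaFun.under_shortExact M) 0).hom
    (((LocCohLib.lcZeroIso I).inv.app (seq M).X₃).hom ((DRing.gammaI I).map (seq M).g
      (⟨p.1, h2⟩ : DRing.torsionSub I (seq M).X₂))) = 0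
  refine (congrArg _ h3).trans ?_
  exact ConcreteCategory.congr_hom ((LocCohLib.lcDelta I).map_comp_δ (LocCohLib.DeltaFun.under_shortExact M) 0) _

/-- The connecting map. -/
def kappaHom (M : ModuleCat.{u} R) : LocCoh.DT I M →ₗ[R] (localCohomology I 1).obj M :=
  Submodule.liftQ _ (chi I M) (ker_theta_le I M) ∘ₗ
    (LinearMap.quotKerEquivOfSurjective _ (theta_surjective I M)).symm.toLinearMap

theorem kappaHom_theta (M : ModuleCat.{u} R) (p : pre I M) : kappaHom I M (theta I M p) = chi I M p := by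
  show Submodule.liftQ _ (chi I M) (ker_theta_le I M)
    ((LinearMap.quotKerEquivOfSurjective _ (theta_surjective I M)).symm (theta I M p)) = _
  rw [show (LinearMap.quotKerEquivOfSurjective _ (theta_surjective I M)).symm (theta I M p) =
    Submodule.Quotient.mk p from (LinearEquiv.symm_apply_eq _).2 rfl]
  rfl

theorem underE_apply {M N : ModuleCat.{u} R} (g : M ⟶ N) (e : (seq M).X₂) :
    (seq N).g.hom ((LocCohLib.DeltaFun.underMap g).τ₂.hom e) =
      (LocCohLib.DeltaFun.underMap g).τ₃.hom ((seq M).g.hom e) :=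
  ConcreteCategory.congr_hom (LocCohLib.DeltaFun.underMap g).comm₂₃ e

theorem pre_map {M N : ModuleCat.{u} R} (g : M ⟶ N) (p : pre I M) :
    (LocCohLib.DeltaFun.underMap g).τ₂.hom p.1 ∈ pre I N := by
  show (seq N).g.hom _ ∈ DRing.torsionSub I _
  rw [underE_apply]
  exact DRing.map_mem_torsionSub I _ p.2

theorem theta_natural {M N : ModuleCat.{u} R} (g : M ⟶ N) (p : pre I M) :
    theta I N ⟨_, pre_map I g p⟩ = Dmap I g.hom (theta I M p) := by
  refine Dmap_injective_of_injective (ι_injective N) ?_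
  rw [theta_spec, ← Dmap_comp,
    show (iot N) ∘ₗ g.hom = (LocCohLib.DeltaFun.underMap g).τ₂.hom ∘ₗ (iot M) from
      congrArg ModuleCat.Hom.hom (LocCohLib.DeltaFun.underMap g).comm₁₂,
    Dmap_comp, theta_spec, Dmap_toDT]

theorem chi_natural {M N : ModuleCat.{u} R} (g : M ⟶ N) (p : pre I M) :
    chi I N ⟨_, pre_map I g p⟩ = (localCohomology I 1).map g (chi I M p) := by
  let φ := LocCohLib.DeltaFun.underMap g
  have h1 := ConcreteCategory.congr_hom ((LocCohLib.lcZeroIso I).inv.naturality φ.τ₃)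
    (⟨(seq M).g.hom p.1, p.2⟩ : DRing.torsionSub I (seq M).X₃)
  have h2 : (⟨(seq N).g.hom (φ.τ₂.hom p.1), pre_map I g p⟩ : DRing.torsionSub I (seq N).X₃) =
      (DRing.gammaI I).map φ.τ₃ (⟨(seq M).g.hom p.1, p.2⟩ : DRing.torsionSub I (seq M).X₃) :=
    Subtype.ext (underE_apply g p.1)
  show ((LocCohLib.lcDelta I).δ (LocCohLib.DeltaFun.under_shortExact N) 0).hom
    (((LocCohLib.lcZeroIso I).inv.app (seq N).X₃).hom
      (⟨(seq N).g.hom (φ.τ₂.hom p.1), pre_map I g p⟩ : DRing.torsionSub I (seq N).X₃)) = _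
  rw [h2]
  refine (congrArg _ h1).trans ?_
  exact (ConcreteCategory.congr_hom ((LocCohLib.lcDelta I).δ_natural (LocCohLib.DeltaFun.under_shortExact M)
    (LocCohLib.DeltaFun.under_shortExact N) φ 0) _).symm

/-- The connecting transformation. -/
def kappa : LocCoh.idealTransform I ⟶ localCohomology I 1 where
  app M := ModuleCat.ofHom (kappaHom I M)
  naturality M N g := by
    ext x
    obtain ⟨p, rfl⟩ := theta_surjective I M x
    show kappaHom I N (Dmap I g.hom (theta I M p)) = (localCohomology I 1).map g (kappaHom I M (theta I M p))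
    rw [← theta_natural, kappaHom_theta, kappaHom_theta, chi_natural]

variable {I}

theorem kappa_surjective (M : ModuleCat.{u} R) : Function.Surjective (kappaHom I M) := fun y => by
  haveI : Epi ((LocCohLib.lcDelta I).δ (LocCohLib.DeltaFun.under_shortExact M) 0) :=
    (LocCohLib.lcDelta I).epi_δ _ 0 (LocCohLib.lcDelta_effaceable I _ (inferInstanceAs (Injective (Injective.under M))) 0)
  obtain ⟨z, rfl⟩ := (ModuleCat.epi_iff_surjective _).1 this y
  obtain ⟨w, rfl⟩ := (ConcreteCategory.bijective_of_isIso ((LocCohLib.lcZeroIso I).inv.app (seq M).X₃)).2 z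
  obtain ⟨e, he⟩ := π_surjective M w.1
  have hp : e ∈ pre I M := by
    show (seq M).g.hom e ∈ DRing.torsionSub I (seq M).X₃
    rw [he]
    exact w.2
  refine ⟨theta I M ⟨e, hp⟩, ?_⟩
  rw [kappaHom_theta]
  exact congrArg (fun v => ((LocCohLib.lcDelta I).δ (LocCohLib.DeltaFun.under_shortExact M) 0).hom
    (((LocCohLib.lcZeroIso I).inv.app (seq M).X₃).hom v)) (Subtype.ext he :
      (⟨(seq M).g.hom e, hp⟩ : DRing.torsionSub I (seq M).X₃) = w)

theorem kappa_toDT (M : ModuleCat.{u} R) (m : M) : kappaHom I M (LocCoh.toDT I M m) = 0 := by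
  have h0 : (seq M).g.hom ((iot M) m) = 0 := (seq_exact M).apply_apply_eq_zero m
  have hp : (iot M) m ∈ pre I M := by
    show (seq M).g.hom (iot M m) ∈ DRing.torsionSub I (seq M).X₃
    rw [h0]
    exact zero_mem _
  have ht : theta I M ⟨_, hp⟩ = LocCoh.toDT I M m :=
    Dmap_injective_of_injective (ι_injective M) ((theta_spec I M ⟨_, hp⟩).trans (Dmap_toDT _ m).symm)
  rw [← ht, kappaHom_theta]
  show ((LocCohLib.lcDelta I).δ _ 0).hom (((LocCohLib.lcZeroIso I).inv.app (seq M).X₃).hom
    (⟨(seq M).g.hom ((iot M) m), hp⟩ : DRing.torsionSub I (seq M).X₃)) = 0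
  rw [show (⟨(seq M).g.hom ((iot M) m), hp⟩ : DRing.torsionSub I (seq M).X₃) = 0 from Subtype.ext h0]
  exact (congrArg _ (map_zero _)).trans (map_zero _)

theorem ker_kappa (M : ModuleCat.{u} R) : LinearMap.ker (kappaHom I M) = LinearMap.range (LocCoh.toDT I M) := by
  refine le_antisymm (fun x hx => ?_) (by rintro _ ⟨m, rfl⟩; exact kappa_toDT M m)
  obtain ⟨p, rfl⟩ := theta_surjective I M x
  rw [LinearMap.mem_ker, kappaHom_theta] at hx
  obtain ⟨z, hz⟩ := (ShortComplex.moduleCat_exact_iff _).1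
    ((LocCohLib.lcDelta I).exact₃ (LocCohLib.DeltaFun.under_shortExact M) 0) _ hx
  obtain ⟨w, hw⟩ : ∃ w : DRing.torsionSub I (seq M).X₂, w = (LocCohLib.lcZeroIso I).hom.app (seq M).X₂ z :=
    ⟨_, rfl⟩
  have h3 : (seq M).g.hom p.1 = (seq M).g.hom w.1 := by
    have h4 := ConcreteCategory.congr_hom ((LocCohLib.lcZeroIso I).hom.naturality (seq M).g) z
    have h5 := congrArg ((LocCohLib.lcZeroIso I).hom.app (seq M).X₃) hz
    have h6 : ((LocCohLib.lcZeroIso I).hom.app (seq M).X₃)
        (((LocCohLib.lcZeroIso I).inv.app (seq M).X₃) (⟨(seq M).g.hom p.1, p.2⟩ : DRing.torsionSub I (seq M).X₃)) =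
        ⟨(seq M).g.hom p.1, p.2⟩ := Iso.inv_hom_id_app_apply _ _ _
    rw [hw]
    exact congrArg Subtype.val (h6.symm.trans (h5.symm.trans h4))
  obtain ⟨m, hm⟩ := (seq_exact M _).1 (show (seq M).g.hom (p.1 - w.1) = 0 by rw [map_sub, h3, sub_self])
  refine ⟨m, Dmap_injective_of_injective (ι_injective M) ?_⟩
  rw [Dmap_toDT, theta_spec, hm, map_sub, sub_eq_self, ← LinearMap.mem_ker, ker_toDT]
  exact w.2

/-- `coker η ≅ H^1`. -/
def cokerEquiv (M : Type u) [AddCommGroup M] [Module R M] :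
    (LocCoh.DT I M ⧸ LinearMap.range (LocCoh.toDT I M)) ≃ₗ[R] LocCoh.H I 1 M :=
  (Submodule.quotEquivOfEq _ _ (ker_kappa (ModuleCat.of R M)).symm).trans
    (LinearMap.quotKerEquivOfSurjective _ (kappa_surjective (ModuleCat.of R M)))

end IdealTransLib
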