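import Groth.Agent.IdealTransLib.Basic
import Mathlib.RingTheory.Filtration

/-! Torsion kernels and cokernels disappear under ideal transforms. -/

set_option autoImplicit false
set_option linter.style.haveILetI false
universe u

noncomputable section

open CategoryTheory Limits Opposite

namespace IdealTransLib

variable {R : Type u} [CommRing R] [IsNoetherianRing R] {I : Ideal R} {M N : Type u}
  [AddCommGroup M] [Module R M] [AddCommGroup N] [Module R N]

/-- A map on a free presentation of `I^n` killing relations up to torsion descends to some `I^k`. -/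
theorem exists_descend {F : Type u} [AddCommGroup F] [Module R F] [Module.Finite R F] {n : ℕ}
    (p : F →ₗ[R] ↥(I ^ n)) (hp : Function.Surjective p) (φ : F →ₗ[R] M)
    (hφ : ∀ v, p v = 0 → φ v ∈ DRing.torsionSub I M) :
    ∃ (k : ℕ) (_ : n ≤ k) (h : ↥(I ^ k) →ₗ[R] M), ∀ x : ↥(I ^ k), ∃ v, (p v).1 = x.1 ∧ h x = φ v := by
  classical
  let L := LinearMap.ker p
  haveI : Module.Finite R L := Module.Finite.of_injective L.subtype Subtype.val_injective
  obtain ⟨c, hc⟩ := exists_pow_smul_range (φ ∘ₗ L.subtype) ⊥ (I := I) (fun v => by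
    obtain ⟨t, ht⟩ := hφ v.1 v.2
    exact ⟨t, fun a ha => by rw [Submodule.mem_bot]; exact ht a ha⟩)
  obtain ⟨j0, hj0⟩ := I.exists_pow_inf_eq_pow_smul (M := F) L
  set j := j0 + c with hj
  let S : Submodule R F := I ^ j • ⊤
  have hmap : S.map ((I ^ n).subtype ∘ₗ p) = I ^ (n + j) := by
    rw [Submodule.map_smul'', Submodule.map_top, LinearMap.range_comp, LinearMap.range_eq_top.2 hp,
      Submodule.map_top, Submodule.range_subtype, smul_eq_mul, ← pow_add, add_comm]
  let q : S →ₗ[R] ↥(I ^ (n + j)) :=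
    ((((I ^ n).subtype ∘ₗ p).comp S.subtype).codRestrict _ fun v => hmap.le ⟨v.1, v.2, rfl⟩)
  have hq : Function.Surjective q := fun ⟨x, hx⟩ => by
    obtain ⟨v, hv, rfl⟩ := hmap.ge hx
    exact ⟨⟨v, hv⟩, rfl⟩
  have hker : LinearMap.ker q ≤ LinearMap.ker (φ ∘ₗ S.subtype) := fun v hv => by
    have hvL : v.1 ∈ L := by
      have h1 : ((p v.1 : ↥(I ^ n)) : R) = 0 := congrArg Subtype.val (LinearMap.mem_ker.1 hv)
      exact LinearMap.mem_ker.2 (Subtype.ext h1)
    have h2 : v.1 ∈ I ^ (j - j0) • (I ^ j0 • (⊤ : Submodule R F) ⊓ L) :=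
      hj0 j (Nat.le_add_right _ _) ▸ ⟨v.2, hvL⟩
    have h3 : v.1 ∈ I ^ c • L := by
      rw [show j - j0 = c by omega] at h2
      exact Submodule.smul_mono le_rfl inf_le_right h2
    show φ v.1 = 0
    refine Submodule.smul_induction_on h3 (fun a ha y hy => ?_) (fun a b ha hb => by rw [map_add, ha, hb, add_zero])
    rw [map_smul]
    exact (Submodule.mem_bot R).1 (hc ⟨y, hy⟩ a ha)
  refine ⟨n + j, Nat.le_add_right _ _, (Submodule.liftQ _ (φ ∘ₗ S.subtype) hker) ∘ₗ
    (LinearMap.quotKerEquivOfSurjective q hq).symm.toLinearMap, fun x => ?_⟩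
  obtain ⟨v, rfl⟩ := hq x
  refine ⟨v.1, rfl, ?_⟩
  have h1 : (LinearMap.quotKerEquivOfSurjective q hq).symm (q v) = Submodule.Quotient.mk v :=
    (LinearEquiv.symm_apply_eq _).2 rfl
  show Submodule.liftQ _ (φ ∘ₗ S.subtype) hker ((LinearMap.quotKerEquivOfSurjective q hq).symm (q v)) = _
  rw [h1]
  rfl

theorem Dmap_injective {e : M →ₗ[R] N} (hker : LinearMap.ker e ≤ DRing.torsionSub I M) :
    Function.Injective (Dmap I e) := by
  rw [injective_iff_map_eq_zero]
  intro x hx
  obtain ⟨n, f, rfl⟩ := exists_mk x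
  rw [Dmap_mk, mk_eq_zero_iff] at hx
  obtain ⟨k, hk, he⟩ := hx
  obtain ⟨k', hk', h'⟩ := exists_fun_eq_zero (res f hk) fun y => hker (LinearMap.congr_fun he y)
  exact mk_eq_zero_iff.2 ⟨k', hk.trans hk', h'⟩

theorem Dmap_surjective {e : M →ₗ[R] N} (hker : LinearMap.ker e ≤ DRing.torsionSub I M)
    (hcoker : LocCoh.IsPowerTorsion I (N ⧸ LinearMap.range e)) : Function.Surjective (Dmap I e) := by
  intro x
  obtain ⟨n, g, rfl⟩ := exists_mk x
  haveI : Module.Finite R ↥(I ^ n) := Module.Finite.iff_fg.2 (IsNoetherian.noetherian _)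
  obtain ⟨c, hc⟩ := exists_pow_smul_range g (LinearMap.range e) (I := I) (fun y => by
    obtain ⟨t, ht⟩ := hcoker (Submodule.Quotient.mk (g y))
    exact ⟨t, fun a ha => (Submodule.Quotient.mk_eq_zero _).1 (ht a ha)⟩)
  have hrange : ∀ z : ↥(I ^ (n + c)), res g (Nat.le_add_right n c) z ∈ LinearMap.range e := by
    rintro ⟨z, hz⟩
    have hz' : z ∈ I ^ c * I ^ n := by rwa [← pow_add, add_comm]
    suffices ∀ hz'' : z ∈ I ^ n, g ⟨z, hz''⟩ ∈ LinearMap.range e from this _
    clear hz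
    induction hz' using Submodule.mul_induction_on' with
    | mem_mul_mem a ha b hb =>
      intro hz'
      have h1 := hc ⟨b, hb⟩ a ha
      rw [← map_smul] at h1
      exact h1
    | add a ha b hb iha ihb =>
      intro hz'
      have h1 := iha (Ideal.mul_le_right ha)
      have h2 := ihb (Ideal.mul_le_right hb)
      have := Submodule.add_mem _ h1 h2
      rwa [← map_add] at this
  haveI : Module.Finite R ↥(I ^ (n + c)) := Module.Finite.iff_fg.2 (IsNoetherian.noetherian _)
  obtain ⟨s, p, hp⟩ := Module.Finite.exists_fin' R ↥(I ^ (n + c))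
  obtain ⟨φ, hφ⟩ := Module.projective_lifting_property e.rangeRestrict
    ((res g (Nat.le_add_right n c)).codRestrict _ hrange ∘ₗ p) e.surjective_rangeRestrict
  have hφ' : ∀ v, e (φ v) = res g (Nat.le_add_right n c) (p v) := fun v =>
    congrArg Subtype.val (LinearMap.congr_fun hφ v)
  obtain ⟨k, hk, h, hh⟩ := exists_descend p hp φ fun v hv => hker (by
    rw [LinearMap.mem_ker, hφ', hv, map_zero])
  refine ⟨mk k h, ?_⟩
  rw [Dmap_mk, ← mk_res ((Nat.le_add_right n c).trans hk) g]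
  congr 1
  ext y
  obtain ⟨v, hv, hv'⟩ := hh y
  show e (h y) = g _
  rw [hv', hφ']
  exact congrArg g (Subtype.ext hv)

theorem Dmap_bijective {e : M →ₗ[R] N} (hker : LinearMap.ker e ≤ DRing.torsionSub I M)
    (hcoker : LocCoh.IsPowerTorsion I (N ⧸ LinearMap.range e)) : Function.Bijective (Dmap I e) :=
  ⟨Dmap_injective hker, Dmap_surjective hker hcoker⟩

theorem existsUnique_factor {K : Type u} [AddCommGroup K] [Module R K] {e : M →ₗ[R] N}
    (hker : LinearMap.ker e ≤ DRing.torsionSub I M)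
    (hcoker : LocCoh.IsPowerTorsion I (N ⧸ LinearMap.range e)) (ψ : M →ₗ[R] K) :
    ∃! ψ' : N →ₗ[R] LocCoh.DT I K, ψ' ∘ₗ e = LocCoh.toDT I K ∘ₗ ψ := by
  let E := LinearEquiv.ofBijective (Dmap I e) (Dmap_bijective hker hcoker)
  refine ⟨Dmap I ψ ∘ₗ E.symm.toLinearMap ∘ₗ LocCoh.toDT I N, ?_, fun χ hχ => hom_ext_torsion hcoker ?_⟩
  · ext m
    show Dmap I ψ (E.symm (LocCoh.toDT I N (e m))) = _
    rw [← Dmap_toDT, show E.symm (Dmap I e (LocCoh.toDT I M m)) = LocCoh.toDT I M m from E.symm_apply_apply _,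
      Dmap_toDT]
    rfl
  · rw [hχ]
    ext m
    show _ = Dmap I ψ (E.symm (LocCoh.toDT I N (e m)))
    rw [← Dmap_toDT, show E.symm (Dmap I e (LocCoh.toDT I M m)) = LocCoh.toDT I M m from E.symm_apply_apply _,
      Dmap_toDT]
    rfl

theorem ker_toDT_le : LinearMap.ker (LocCoh.toDT I M) ≤ DRing.torsionSub I M := ker_toDT.le

theorem toDT_DT_eq : LocCoh.toDT I (LocCoh.DT I M) = Dmap I (LocCoh.toDT I M) := by
  refine hom_ext_torsion (e := LocCoh.toDT I M) isPowerTorsion_coker (LinearMap.ext fun m => ?_)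
  show _ = Dmap I (LocCoh.toDT I M) (LocCoh.toDT I M m)
  rw [Dmap_toDT]
  rfl

theorem bijective_toDT_DT : Function.Bijective (LocCoh.toDT I (LocCoh.DT I M)) := by
  rw [toDT_DT_eq]
  exact Dmap_bijective ker_toDT_le isPowerTorsion_coker

end IdealTransLib
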