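import Groth.Prelude.Def_W4bk5brsh16IT
import Groth.Agent.LocCohLib.Facts

/-! Elements of ideal transforms. -/

set_option autoImplicit false
set_option linter.style.haveILetI false
universe u

noncomputable section

open CategoryTheory Limits Opposite

namespace IdealTransLib

variable {R : Type u} [CommRing R] {I : Ideal R} {M N P : Type u} [AddCommGroup M] [Module R M]
  [AddCommGroup N] [Module R N] [AddCommGroup P] [Module R P]

theorem le_of_hom {n m : ℕᵒᵖᵒᵖ} (f : n ⟶ m) : n.unop.unop ≤ m.unop.unop := f.unop.unop.down.down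

abbrev homOf {n k : ℕ} (h : n ≤ k) : (op (op n) : ℕᵒᵖᵒᵖ) ⟶ op (op k) := (homOfLE h).op.op

/-- Restriction of a map on `I^n` to `I^k`. -/
abbrev res {n₀ : ℕ} (f : ↥(I ^ n₀) →ₗ[R] M) {k : ℕ} (h : n₀ ≤ k) : ↥(I ^ k) →ₗ[R] M :=
  f ∘ₗ Submodule.inclusion (Ideal.pow_le_pow_right h)

/-- The class of a map `I^n → M`. -/
def mk (n : ℕ) : (↥(I ^ n) →ₗ[R] M) →ₗ[R] LocCoh.DT I M :=
  ((colimit.ι (LocCoh.transformDiagram I) (op (op n))).app (ModuleCat.of R M)).hom ∘ₗ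
    (ModuleCat.homLinearEquiv (S := R) (M := ModuleCat.of R ↥(I ^ n))
      (N := ModuleCat.of R M)).symm.toLinearMap

theorem mk_apply (n : ℕ) (f : ↥(I ^ n) →ₗ[R] M) :
    mk n f = ((colimit.ι (LocCoh.transformDiagram I) (op (op n))).app (ModuleCat.of R M)).hom
      (ModuleCat.ofHom f) := rfl

/-- A map as an element of the diagram. -/
abbrev elt {n : ℕ} (f : ↥(I ^ n) →ₗ[R] M) : ModuleCat.of R ↥(I ^ n) ⟶ ModuleCat.of R M := ModuleCat.ofHom f

/-- The cocone computing `D_I(M)`. -/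
def cocone (I : Ideal R) (M : ModuleCat.{u} R) :
    Cocone (LocCoh.transformDiagram I ⋙ (evaluation _ _).obj M) :=
  ((evaluation (ModuleCat.{u} R) (ModuleCat.{u} R)).obj M).mapCocone
    (colimit.cocone (LocCoh.transformDiagram I))

/-- It is colimiting. -/
def coconeIsColimit (I : Ideal R) (M : ModuleCat.{u} R) : IsColimit (cocone I M) :=
  isColimitOfPreserves _ (colimit.isColimit _)

theorem exists_mk (x : LocCoh.DT I M) : ∃ (n : ℕ) (f : ↥(I ^ n) →ₗ[R] M), mk n f = x := by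
  obtain ⟨j, f, hf⟩ := Concrete.isColimit_exists_rep _ (coconeIsColimit I (ModuleCat.of R M)) x
  exact ⟨j.unop.unop, f.hom, hf⟩

theorem mk_res {n k : ℕ} (h : n ≤ k) (f : ↥(I ^ n) →ₗ[R] M) : mk k (res f h) = mk n f :=
  LinearMap.congr_fun (congrArg ModuleCat.Hom.hom ((cocone I (ModuleCat.of R M)).w (homOf h))) (elt f)

theorem exists_mk_ge (x : LocCoh.DT I M) (k : ℕ) :
    ∃ (n : ℕ) (f : ↥(I ^ n) →ₗ[R] M), k ≤ n ∧ mk n f = x := by
  obtain ⟨n, f, rfl⟩ := exists_mk x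
  exact ⟨max n k, res f (le_max_left _ _), le_max_right _ _, mk_res _ f⟩

theorem mk_eq_iff {n m : ℕ} {f : ↥(I ^ n) →ₗ[R] M} {g : ↥(I ^ m) →ₗ[R] M} :
    mk n f = mk m g ↔ ∃ (k : ℕ) (hn : n ≤ k) (hm : m ≤ k), res f hn = res g hm := by
  constructor
  · intro h
    have key := Concrete.isColimit_rep_eq_iff_exists
      (LocCoh.transformDiagram I ⋙ (evaluation (ModuleCat.{u} R) (ModuleCat.{u} R)).obj (ModuleCat.of R M))
      (coconeIsColimit I (ModuleCat.of R M)) (i := op (op n)) (j := op (op m))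
    obtain ⟨k, p, q, hpq⟩ := (key (elt f) (elt g)).1 h
    exact ⟨k.unop.unop, le_of_hom p, le_of_hom q, congrArg ModuleCat.Hom.hom hpq⟩
  · rintro ⟨k, hn, hm, h⟩
    rw [← mk_res hn f, h, mk_res]

theorem mk_eq_zero_iff {n : ℕ} {f : ↥(I ^ n) →ₗ[R] M} :
    mk n f = 0 ↔ ∃ (k : ℕ) (h : n ≤ k), res f h = 0 := by
  rw [← map_zero (mk (I := I) (M := M) n), mk_eq_iff]
  exact ⟨fun ⟨k, h, _, he⟩ => ⟨k, h, he⟩, fun ⟨k, h, he⟩ => ⟨k, h, h, he⟩⟩

/-- `D_I(g)`. -/
abbrev Dmap (I : Ideal R) (g : M →ₗ[R] N) : LocCoh.DT I M →ₗ[R] LocCoh.DT I N :=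
  ((LocCoh.idealTransform I).map (ModuleCat.ofHom g)).hom

theorem Dmap_mk (g : M →ₗ[R] N) {n : ℕ} (f : ↥(I ^ n) →ₗ[R] M) : Dmap I g (mk n f) = mk n (g ∘ₗ f) :=
  (LinearMap.congr_fun (congrArg ModuleCat.Hom.hom ((colimit.ι (LocCoh.transformDiagram I) (op (op n))).naturality
    (ModuleCat.ofHom g))) (elt f)).symm

theorem Dmap_comp (h : N →ₗ[R] P) (g : M →ₗ[R] N) (x : LocCoh.DT I M) :
    Dmap I (h ∘ₗ g) x = Dmap I h (Dmap I g x) := by
  obtain ⟨n, f, rfl⟩ := exists_mk x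
  rw [Dmap_mk, Dmap_mk, Dmap_mk, LinearMap.comp_assoc]

/-- The map `r ↦ r • m`. -/
abbrev smulFun (I : Ideal R) (n : ℕ) (m : M) : ↥(I ^ n) →ₗ[R] M :=
  (LinearMap.toSpanSingleton R M m) ∘ₗ (I ^ n).subtype

theorem toDT_eq (n : ℕ) (m : M) : LocCoh.toDT I M m = mk n (smulFun I n m) := by
  have h : LocCoh.toDT I M m = mk 0 (smulFun I 0 m) := rfl
  rw [h, ← mk_res (Nat.zero_le n)]
  rfl

theorem Dmap_toDT (g : M →ₗ[R] N) (m : M) : Dmap I g (LocCoh.toDT I M m) = LocCoh.toDT I N (g m) := by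
  rw [toDT_eq 0, Dmap_mk, toDT_eq 0]
  congr 1
  ext r
  exact g.map_smul _ m

/-- Multiples of a class by elements of `I^n`. -/
theorem smul_mk {n : ℕ} (f : ↥(I ^ n) →ₗ[R] M) {a : R} (ha : a ∈ I ^ n) :
    a • mk n f = LocCoh.toDT I M (f ⟨a, ha⟩) := by
  rw [← map_smul, toDT_eq n]
  congr 1
  ext ⟨r, hr⟩
  show a • f ⟨r, hr⟩ = r • f ⟨a, ha⟩
  rw [← map_smul, ← map_smul]
  exact congrArg f (Subtype.ext (mul_comm a r))

theorem isPowerTorsion_coker :
    LocCoh.IsPowerTorsion I (LocCoh.DT I M ⧸ LinearMap.range (LocCoh.toDT I M)) := by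
  intro y
  obtain ⟨x, rfl⟩ := Submodule.Quotient.mk_surjective _ y
  obtain ⟨n, f, rfl⟩ := exists_mk x
  refine ⟨n, fun a ha => ?_⟩
  rw [← Submodule.Quotient.mk_smul, Submodule.Quotient.mk_eq_zero, smul_mk f ha]
  exact ⟨_, rfl⟩

theorem ker_toDT : LinearMap.ker (LocCoh.toDT I M) = DRing.torsionSub I M := by
  ext m
  rw [LinearMap.mem_ker, toDT_eq 0, mk_eq_zero_iff]
  constructor
  · rintro ⟨k, h, he⟩
    exact ⟨k, fun a ha => LinearMap.congr_fun he ⟨a, ha⟩⟩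
  · rintro ⟨k, hk⟩
    exact ⟨k, Nat.zero_le k, LinearMap.ext fun a => hk a.1 a.2⟩

/-- A finitely generated module into a torsion module is killed by one power. -/
theorem exists_pow_smul_range [Module.Finite R N] (g : N →ₗ[R] M) (P : Submodule R M)
    (h : ∀ x, ∃ k : ℕ, ∀ a ∈ I ^ k, a • g x ∈ P) : ∃ k : ℕ, ∀ x, ∀ a ∈ I ^ k, a • g x ∈ P := by
  classical
  obtain ⟨s, hs⟩ := Module.Finite.fg_top (R := R) (M := N)
  choose k hk using h
  refine ⟨s.sup k, fun x a ha => ?_⟩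
  have hx : x ∈ Submodule.span R (s : Set N) := hs.symm ▸ Submodule.mem_top
  induction hx using Submodule.span_induction with
  | mem y hy => exact hk y a (Ideal.pow_le_pow_right (Finset.le_sup hy) ha)
  | zero => rw [map_zero, smul_zero]; exact P.zero_mem
  | add y z _ _ hy hz => rw [map_add, smul_add]; exact P.add_mem hy hz
  | smul r y _ hy => rw [map_smul, smul_comm]; exact P.smul_mem r hy

section Noetherian

variable [IsNoetherianRing R]

theorem exists_fun_eq_zero {n : ℕ} (f : ↥(I ^ n) →ₗ[R] M) (h : ∀ x, f x ∈ DRing.torsionSub I M) :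
    ∃ (k : ℕ) (hk : n ≤ k), res f hk = 0 := by
  haveI : Module.Finite R ↥(I ^ n) := Module.Finite.iff_fg.2 (IsNoetherian.noetherian _)
  obtain ⟨j, hj⟩ := exists_pow_smul_range f ⊥ (I := I) (fun x => by
    obtain ⟨t, ht⟩ := h x
    exact ⟨t, fun a ha => by rw [Submodule.mem_bot]; exact ht a ha⟩)
  refine ⟨n + j, Nat.le_add_right _ _, LinearMap.ext fun ⟨x, hx⟩ => ?_⟩
  have hx' : x ∈ I ^ j * I ^ n := by rwa [← pow_add, add_comm]
  show f ⟨x, _⟩ = 0
  have hgoal : ∀ z, z ∈ I ^ j * I ^ n → ∀ hz' : z ∈ I ^ n, f ⟨z, hz'⟩ = 0 := by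
    intro z hz
    induction hz using Submodule.mul_induction_on' with
    | mem_mul_mem a ha b hb =>
      intro hz'
      have h1 := (Submodule.mem_bot R).1 (hj ⟨b, hb⟩ a ha)
      rw [← map_smul] at h1
      exact h1
    | add a ha b hb iha ihb =>
      intro hz'
      have h1 := iha (Ideal.mul_le_right ha)
      have h2 := ihb (Ideal.mul_le_right hb)
      exact (map_add f ⟨a, Ideal.mul_le_right ha⟩ ⟨b, Ideal.mul_le_right hb⟩).trans (by rw [h1, h2, add_zero])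
  exact hgoal x hx' _

theorem torsionSub_DT : DRing.torsionSub I (LocCoh.DT I M) = ⊥ := by
  refine eq_bot_iff.2 fun x hx => ?_
  obtain ⟨n, f, rfl⟩ := exists_mk x
  obtain ⟨k, hk⟩ := hx
  obtain ⟨k', hk', he⟩ := exists_fun_eq_zero (res f (le_max_left n k)) fun ⟨y, hy⟩ => by
    have h1 := hk y (Ideal.pow_le_pow_right (le_max_right n k) hy)
    rw [smul_mk f (Ideal.pow_le_pow_right (le_max_left n k) hy)] at h1
    rw [← ker_toDT]
    exact h1
  exact (Submodule.mem_bot R).2 (mk_eq_zero_iff.2 ⟨k', (le_max_left n k).trans hk', he⟩)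

theorem eq_of_smul_eq {x y : LocCoh.DT I M} (k : ℕ) (h : ∀ a ∈ I ^ k, a • x = a • y) : x = y := by
  have : x - y ∈ DRing.torsionSub I (LocCoh.DT I M) :=
    ⟨k, fun a ha => by rw [smul_sub, h a ha, sub_self]⟩
  rw [torsionSub_DT, Submodule.mem_bot, sub_eq_zero] at this
  exact this

theorem subsingleton_DT (h : LocCoh.IsPowerTorsion I M) : Subsingleton (LocCoh.DT I M) :=
  subsingleton_of_forall_eq 0 fun x => by
    obtain ⟨n, f, rfl⟩ := exists_mk x
    exact mk_eq_zero_iff.2 (exists_fun_eq_zero f fun y => h _)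

/-- Maps into an ideal transform agreeing on a submodule of torsion index are equal. -/
theorem hom_ext_torsion {g h : N →ₗ[R] LocCoh.DT I M} {e : P →ₗ[R] N}
    (he : LocCoh.IsPowerTorsion I (N ⧸ LinearMap.range e)) (hgh : g ∘ₗ e = h ∘ₗ e) : g = h := by
  ext x
  obtain ⟨k, hk⟩ := he (Submodule.Quotient.mk x)
  refine eq_of_smul_eq k fun a ha => ?_
  have h1 := hk a ha
  rw [← Submodule.Quotient.mk_smul, Submodule.Quotient.mk_eq_zero] at h1
  obtain ⟨p, hp⟩ := h1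
  rw [← map_smul, ← map_smul, ← hp]
  exact LinearMap.congr_fun hgh p

end Noetherian

end IdealTransLib
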