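import Groth.Agent.IdealTransLib.Basic
import Mathlib.RingTheory.Filtration
import Mathlib.RingTheory.MvPolynomial.Homogeneous
import Mathlib.LinearAlgebra.TensorProduct.Basic

/-! Graded maps to polynomial rings attached to splittings `x = ∑ f_j φ_j(x)`. -/

set_option autoImplicit false
set_option linter.style.haveILetI false
set_option maxHeartbeats 400000
universe u

noncomputable section

open scoped TensorProduct

namespace IdealTransLib

/-- A map killing relations up to torsion descends to `I^e` times the range. -/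
theorem exists_descend_submodule {B : Type u} [CommRing B] [IsNoetherianRing B] {J : Ideal B} {F N M : Type u}
    [AddCommGroup F] [Module B F] [Module.Finite B F] [AddCommGroup N] [Module B N] [AddCommGroup M] [Module B M]
    (p : F →ₗ[B] N) (φ : F →ₗ[B] M) (hφ : ∀ v, p v = 0 → φ v ∈ DRing.torsionSub J M) :
    ∃ e : ℕ, ∀ k, e ≤ k → ∃ h : ↥(J ^ k • LinearMap.range p) →ₗ[B] M,
      ∀ (w : F) (_ : w ∈ J ^ k • (⊤ : Submodule B F)) (hw' : p w ∈ J ^ k • LinearMap.range p),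
        h ⟨p w, hw'⟩ = φ w := by
  classical
  let L := LinearMap.ker p
  haveI : Module.Finite B L := Module.Finite.of_injective L.subtype Subtype.val_injective
  obtain ⟨c, hc⟩ := exists_pow_smul_range (φ ∘ₗ L.subtype) ⊥ (I := J) (fun v => by
    obtain ⟨t, ht⟩ := hφ v.1 v.2
    exact ⟨t, fun a ha => by rw [Submodule.mem_bot]; exact ht a ha⟩)
  obtain ⟨j0, hj0⟩ := J.exists_pow_inf_eq_pow_smul (M := F) L
  refine ⟨j0 + c, fun k hk => ?_⟩
  let S : Submodule B F := J ^ k • ⊤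
  have hmap : S.map p = J ^ k • LinearMap.range p := by
    rw [Submodule.map_smul'', Submodule.map_top]
  let q : S →ₗ[B] ↥(J ^ k • LinearMap.range p) :=
    (p.comp S.subtype).codRestrict _ fun v => hmap.le ⟨v.1, v.2, rfl⟩
  have hq : Function.Surjective q := fun ⟨x, hx⟩ => by
    obtain ⟨v, hv, rfl⟩ := hmap.ge hx
    exact ⟨⟨v, hv⟩, rfl⟩
  have hker : LinearMap.ker q ≤ LinearMap.ker (φ ∘ₗ S.subtype) := fun v hv => by
    have hvL : v.1 ∈ L := congrArg Subtype.val (LinearMap.mem_ker.1 hv)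
    have h2 : v.1 ∈ J ^ (k - j0) • (J ^ j0 • (⊤ : Submodule B F) ⊓ L) :=
      hj0 k (le_trans (Nat.le_add_right _ _) hk) ▸ ⟨v.2, hvL⟩
    have h3 : v.1 ∈ J ^ c • L :=
      Submodule.smul_mono (Ideal.pow_le_pow_right (by omega)) inf_le_right h2
    show φ v.1 = 0
    refine Submodule.smul_induction_on h3 (fun a ha y hy => ?_) (fun a b ha hb => by rw [map_add, ha, hb, add_zero])
    rw [map_smul]
    exact (Submodule.mem_bot B).1 (hc ⟨y, hy⟩ a ha)
  refine ⟨Submodule.liftQ _ (φ ∘ₗ S.subtype) hker ∘ₗ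
    (LinearMap.quotKerEquivOfSurjective q hq).symm.toLinearMap, fun w hw hw' => ?_⟩
  show Submodule.liftQ _ (φ ∘ₗ S.subtype) hker ((LinearMap.quotKerEquivOfSurjective q hq).symm (q ⟨w, hw⟩)) = _
  rw [show (LinearMap.quotKerEquivOfSurjective q hq).symm (q ⟨w, hw⟩) = Submodule.Quotient.mk ⟨w, hw⟩ from
    (LinearEquiv.symm_apply_eq _).2 rfl]
  rfl

variable {A : Type u} [CommRing A] {r : ℕ} {I : Ideal A} {c : ℕ} (φ : Fin r → (↥(I ^ c) →ₗ[A] A))

theorem le_c (n : ℕ) : I ^ ((n + 1) * c) ≤ I ^ c := Ideal.pow_le_pow_right (Nat.le_mul_of_pos_left c n.succ_pos)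

theorem mul_le_succ (n : ℕ) : I ^ c * I ^ (n * c) = I ^ ((n + 1) * c) := by
  rw [← pow_add]; congr 1; ring

theorem phi_mul (j : Fin r) {a b : A} (ha : a ∈ I ^ c) (h : a * b ∈ I ^ c) :
    φ j ⟨a * b, h⟩ = b * φ j ⟨a, ha⟩ := by
  refine Eq.trans ?_ ((φ j).map_smul b ⟨a, ha⟩)
  exact congrArg (φ j) (Subtype.ext (mul_comm a b))

theorem phi_mem (j : Fin r) (n : ℕ) (x : ↥(I ^ ((n + 1) * c))) : φ j ⟨x.1, le_c n x.2⟩ ∈ I ^ (n * c) := by
  obtain ⟨x, hx⟩ := x
  have hx' : x ∈ I ^ c * I ^ (n * c) := by rwa [mul_le_succ]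
  suffices ∀ h : x ∈ I ^ c, φ j ⟨x, h⟩ ∈ I ^ (n * c) from this _
  clear hx
  induction hx' using Submodule.mul_induction_on' with
  | mem_mul_mem a ha b hb =>
    intro h
    rw [phi_mul φ j ha h]
    exact Ideal.mul_mem_right _ _ hb
  | add a ha b hb iha ihb =>
    intro h
    have h1 := iha (Ideal.mul_le_left ha)
    have h2 := ihb (Ideal.mul_le_left hb)
    have := Ideal.add_mem _ h1 h2
    rwa [← map_add] at this

/-- `φ_j` lowering the power by one step. -/
def phiRes (j : Fin r) (n : ℕ) : ↥(I ^ ((n + 1) * c)) →ₗ[A] ↥(I ^ (n * c)) :=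
  (φ j ∘ₗ Submodule.inclusion (le_c n)).codRestrict _ fun x => phi_mem φ j n x

/-- The graded map. -/
def P : (n : ℕ) → ↥(I ^ (n * c)) →ₗ[A] MvPolynomial (Fin r) A
  | 0 => Algebra.linearMap A (MvPolynomial (Fin r) A) ∘ₗ (I ^ (0 * c)).subtype
  | n + 1 => ∑ j, LinearMap.mulLeft A (MvPolynomial.X j) ∘ₗ P n ∘ₗ phiRes φ j n

theorem P_succ (n : ℕ) (x : ↥(I ^ ((n + 1) * c))) :
    P φ (n + 1) x = ∑ j, MvPolynomial.X j * P φ n (phiRes φ j n x) := by
  simp [P]

theorem P_succ_mul (n : ℕ) {a b : A} (ha : a ∈ I ^ c) (hb : b ∈ I ^ (n * c)) (h : a * b ∈ I ^ ((n + 1) * c)) :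
    P φ (n + 1) ⟨a * b, h⟩ = (∑ j, MvPolynomial.C (φ j ⟨a, ha⟩) * MvPolynomial.X j) * P φ n ⟨b, hb⟩ := by
  rw [P_succ, Finset.sum_mul]
  refine Finset.sum_congr rfl fun j _ => ?_
  have h1 : phiRes φ j n ⟨a * b, h⟩ = φ j ⟨a, ha⟩ • ⟨b, hb⟩ :=
    Subtype.ext ((phi_mul φ j ha (le_c n h)).trans (mul_comm _ _))
  rw [h1, map_smul, MvPolynomial.smul_eq_C_mul]
  ring

theorem P_homogeneous : ∀ (n : ℕ) (x : ↥(I ^ (n * c))), (P φ n x).IsHomogeneous n
  | 0, x => MvPolynomial.isHomogeneous_C _ _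
  | n + 1, x => by
    rw [P_succ]
    refine MvPolynomial.IsHomogeneous.sum _ _ _ fun j _ => ?_
    have h := (MvPolynomial.isHomogeneous_X A j).mul (P_homogeneous n (phiRes φ j n x))
    rwa [Nat.add_comm 1 n] at h

theorem P_mul : ∀ (n m : ℕ) (g h : A) (hg : g ∈ I ^ (n * c)) (hh : h ∈ I ^ (m * c)) (hgh : g * h ∈ I ^ ((n + m) * c)),
    P φ (n + m) ⟨g * h, hgh⟩ = P φ n ⟨g, hg⟩ * P φ m ⟨h, hh⟩
  | 0, m, g, h, hg, hh, hgh => by
    have key : ∀ (l : ℕ) (hl : l = 0 + m) (hh' : g * h ∈ I ^ (l * c)), P φ l ⟨g * h, hh'⟩ = P φ (0 + m) ⟨g * h, hgh⟩ := by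
      rintro l rfl _; rfl
    rw [← key m (zero_add m).symm (Ideal.mul_mem_left _ g hh),
      show (⟨g * h, Ideal.mul_mem_left _ g hh⟩ : ↥(I ^ (m * c))) = g • ⟨h, hh⟩ from rfl, map_smul,
      MvPolynomial.smul_eq_C_mul]
    rfl
  | n + 1, m, g, h, hg, hh, hgh => by
    have key : ∀ (l : ℕ) (hl : l = n + 1 + m) (z : A) (h' : z ∈ I ^ (l * c)) (h'' : z ∈ I ^ ((n + 1 + m) * c)),
        P φ l ⟨z, h'⟩ = P φ (n + 1 + m) ⟨z, h''⟩ := by
      rintro l rfl _ _ _; rfl
    have hg' : g ∈ I ^ c * I ^ (n * c) := by rwa [mul_le_succ]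
    suffices ∀ (h1 : g ∈ I ^ ((n + 1) * c)) (h2 : g * h ∈ I ^ ((n + 1 + m) * c)),
      P φ (n + 1 + m) ⟨g * h, h2⟩ = P φ (n + 1) ⟨g, h1⟩ * P φ m ⟨h, hh⟩ from this hg hgh
    clear hg hgh
    induction hg' using Submodule.mul_induction_on' with
    | mem_mul_mem a ha b hb =>
      intro h1 h2
      have hbh : b * h ∈ I ^ ((n + m) * c) := by
        rw [add_mul, pow_add]; exact Ideal.mul_mem_mul hb hh
      have h3 : a * (b * h) ∈ I ^ ((n + m + 1) * c) := by
        rw [← mul_le_succ]; exact Ideal.mul_mem_mul ha hbh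
      have h4 : a * (b * h) ∈ I ^ ((n + 1 + m) * c) := by rwa [← mul_assoc]
      rw [show (⟨a * b * h, h2⟩ : ↥(I ^ ((n + 1 + m) * c))) = ⟨a * (b * h), h4⟩ from Subtype.ext (mul_assoc _ _ _),
        ← key (n + m + 1) (by ring) _ h3 h4, P_succ_mul φ (n + m) ha hbh h3, P_succ_mul φ n ha hb h1,
        P_mul n m b h hb hh hbh, mul_assoc]
    | add a ha b hb iha ihb =>
      intro h1 h2
      have ha1 : a ∈ I ^ ((n + 1) * c) := by rwa [← mul_le_succ]
      have hb1 : b ∈ I ^ ((n + 1) * c) := by rwa [← mul_le_succ]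
      have ha2 : a * h ∈ I ^ ((n + 1 + m) * c) := by rw [add_mul (n + 1), pow_add]; exact Ideal.mul_mem_mul ha1 hh
      have hb2 : b * h ∈ I ^ ((n + 1 + m) * c) := by rw [add_mul (n + 1), pow_add]; exact Ideal.mul_mem_mul hb1 hh
      rw [show (⟨(a + b) * h, h2⟩ : ↥(I ^ ((n + 1 + m) * c))) = ⟨a * h, ha2⟩ + ⟨b * h, hb2⟩ from
          Subtype.ext (add_mul a b h),
        show (⟨a + b, h1⟩ : ↥(I ^ ((n + 1) * c))) = ⟨a, ha1⟩ + ⟨b, hb1⟩ from rfl,
        map_add, map_add, iha ha1 ha2, ihb hb1 hb2]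
      exact (add_mul _ _ _).symm

/-- The axioms of a graded multiplicative map. -/
def GradedAxioms (Φ : ℕ → A → MvPolynomial (Fin r) A) : Prop :=
  (∀ n : ℕ, ∀ g ∈ I ^ (n * c), ∀ h ∈ I ^ (n * c), Φ n (g + h) = Φ n g + Φ n h) ∧
    (∀ (n : ℕ) (a : A), ∀ g ∈ I ^ (n * c), Φ n (a * g) = a • Φ n g) ∧
    (∀ n m : ℕ, ∀ g ∈ I ^ (n * c), ∀ h ∈ I ^ (m * c), Φ (n + m) (g * h) = Φ n g * Φ m h) ∧
    (∀ a : A, Φ 0 a = MvPolynomial.C a) ∧
    (∀ (g : A) (hg : g ∈ I ^ c), Φ 1 g = ∑ j, MvPolynomial.C (φ j ⟨g, hg⟩) * MvPolynomial.X j)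

theorem eq_P {Φ : ℕ → A → MvPolynomial (Fin r) A} (H : GradedAxioms φ Φ) :
    ∀ (n : ℕ) (g : A) (hg : g ∈ I ^ (n * c)), Φ n g = P φ n ⟨g, hg⟩
  | 0, g, hg => H.2.2.2.1 g
  | n + 1, g, hg => by
    have hg' : g ∈ I ^ c * I ^ (n * c) := by rwa [mul_le_succ]
    suffices ∀ h1 : g ∈ I ^ ((n + 1) * c), Φ (n + 1) g = P φ (n + 1) ⟨g, h1⟩ from this hg
    clear hg
    induction hg' using Submodule.mul_induction_on' with
    | mem_mul_mem a ha b hb =>
      intro h1
      rw [P_succ_mul φ n ha hb h1, ← H.2.2.2.2 a ha, ← eq_P H n b hb, add_comm n 1,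
        H.2.2.1 1 n a (by rwa [one_mul]) b hb]
    | add a ha b hb iha ihb =>
      intro h1
      have ha1 : a ∈ I ^ ((n + 1) * c) := by rwa [← mul_le_succ]
      have hb1 : b ∈ I ^ ((n + 1) * c) := by rwa [← mul_le_succ]
      rw [show (⟨a + b, h1⟩ : ↥(I ^ ((n + 1) * c))) = ⟨a, ha1⟩ + ⟨b, hb1⟩ from rfl, map_add,
        H.1 _ a ha1 b hb1, iha ha1, ihb hb1]

theorem aeval_P (f : Fin r → A) (hφ : ∀ x : ↥(I ^ c), (x : A) = ∑ j, f j * φ j x) :
    ∀ (n : ℕ) (x : ↥(I ^ (n * c))), MvPolynomial.aeval f (P φ n x) = x.1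
  | 0, x => MvPolynomial.aeval_C f _
  | n + 1, x => by
    rw [P_succ, map_sum]
    refine Eq.trans ?_ (hφ ⟨x.1, le_c n x.2⟩).symm
    refine Finset.sum_congr rfl fun j _ => ?_
    rw [map_mul, MvPolynomial.aeval_X, aeval_P f hφ n]
    rfl

section Module

variable (A) in
/-- The extended ideal. -/
abbrev ext (B : Type u) [CommRing B] [Algebra A B] (I : Ideal A) : Ideal B := I.map (algebraMap A B)

variable {B : Type u} [CommRing B] [Algebra A B] {N : Type u} [AddCommGroup N] [Module B N]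

theorem span_set_eq (k : ℕ) :
    Submodule.span B {y : N | ∃ g ∈ I ^ k, ∃ x : N, y = algebraMap A B g • x} =
      ext A B I ^ k • (⊤ : Submodule B N) := by
  rw [ext, ← Ideal.map_pow]
  refine le_antisymm (Submodule.span_le.2 ?_) (Submodule.smul_le.2 fun b hb x _ => ?_)
  · rintro y ⟨g, hg, x, rfl⟩
    exact Submodule.smul_mem_smul (Ideal.mem_map_of_mem _ hg) Submodule.mem_top
  · induction hb using Submodule.span_induction with
    | mem z hz =>
      obtain ⟨g, hg, rfl⟩ := hz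
      exact Submodule.subset_span ⟨g, hg, x, rfl⟩
    | zero => rw [zero_smul]; exact zero_mem _
    | add z w _ _ hz hw => rw [add_smul]; exact add_mem hz hw
    | smul z w _ hw => rw [smul_eq_mul, mul_smul]; exact Submodule.smul_mem _ z hw

theorem exists_psi [IsNoetherianRing A] [IsNoetherianRing B] [Module.Finite B N] (j : Fin r) :
    ∃ e : ℕ, ∀ k, e ≤ k → ∃ h : ↥(ext A B I ^ (c + k) • (⊤ : Submodule B N)) →ₗ[B] N,
      ∀ (g : A) (hg : g ∈ I ^ c) (hgk : g ∈ I ^ (c + k)) (x : N) (hm : algebraMap A B g • x ∈ ext A B I ^ (c + k) • (⊤ : Submodule B N)),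
        h ⟨algebraMap A B g • x, hm⟩ = algebraMap A B (φ j ⟨g, hg⟩) • x := by
  classical
  obtain ⟨S, hS⟩ := (IsNoetherian.noetherian (I ^ c) : Submodule.FG (I ^ c))
  obtain ⟨t, gen, hgen⟩ := Module.Finite.exists_fin (R := B) (M := N)
  have hS' : ∀ i : S, i.1 ∈ I ^ c := fun i => hS ▸ Submodule.subset_span i.2
  let p : (S × Fin t → B) →ₗ[B] N := Fintype.linearCombination B fun il => algebraMap A B il.1.1 • gen il.2
  let ψ : (S × Fin t → B) →ₗ[B] N :=
    Fintype.linearCombination B fun il => algebraMap A B (φ j ⟨il.1.1, hS' il.1⟩) • gen il.2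
  have key : ∀ (v : S × Fin t → B) (a : A) (ha : a ∈ I ^ c),
      algebraMap A B a • ψ v = algebraMap A B (φ j ⟨a, ha⟩) • p v := fun v a ha => by
    simp only [ψ, p, Fintype.linearCombination_apply, Finset.smul_sum]
    refine Finset.sum_congr rfl fun il _ => ?_
    rw [smul_comm _ (v il), smul_comm _ (v il)]
    congr 1
    rw [smul_smul, smul_smul, ← map_mul, ← map_mul,
      show a * φ j ⟨il.1.1, hS' il.1⟩ = φ j ⟨a, ha⟩ * il.1.1 by
        rw [← smul_eq_mul, ← map_smul, mul_comm, ← smul_eq_mul, ← map_smul]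
        exact congrArg (φ j) (Subtype.ext (mul_comm _ _))]
  obtain ⟨e, he⟩ := exists_descend_submodule (J := ext A B I) p ψ fun v hv => ⟨c, fun b hb => by
    rw [ext, ← Ideal.map_pow] at hb
    induction hb using Submodule.span_induction with
    | mem z hz =>
      obtain ⟨a, ha, rfl⟩ := hz
      rw [key v a ha, hv, smul_zero]
    | zero => exact zero_smul _ _
    | add z w _ _ hz hw => rw [add_smul, hz, hw, add_zero]
    | smul z w _ hw => rw [smul_eq_mul, mul_smul, hw, smul_zero]⟩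
  refine ⟨e, fun k hk => ?_⟩
  obtain ⟨h, hh⟩ := he k hk
  have hrange : LinearMap.range p = ext A B I ^ c • (⊤ : Submodule B N) := by
    refine le_antisymm ?_ ?_
    · rw [Fintype.range_linearCombination, Submodule.span_le]
      rintro _ ⟨il, rfl⟩
      rw [ext, ← Ideal.map_pow]
      exact Submodule.smul_mem_smul (Ideal.mem_map_of_mem _ (hS' il.1)) Submodule.mem_top
    · rw [← span_set_eq, Submodule.span_le]
      rintro _ ⟨g, hg, x, rfl⟩
      rw [← hS] at hg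
      induction hg using Submodule.span_induction with
      | mem z hz =>
        have hx : x ∈ Submodule.span B (Set.range gen) := hgen.symm ▸ Submodule.mem_top
        obtain ⟨b, rfl⟩ := (Submodule.mem_span_range_iff_exists_fun B).1 hx
        rw [Finset.smul_sum]
        refine Submodule.sum_mem _ fun l _ => ?_
        rw [smul_comm]
        refine Submodule.smul_mem _ _ ?_
        rw [Fintype.range_linearCombination]
        exact Submodule.subset_span ⟨(⟨z, hz⟩, l), rfl⟩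
      | zero => rw [map_zero, zero_smul]; exact zero_mem _
      | add z w _ _ hz hw => rw [map_add, add_smul]; exact add_mem hz hw
      | smul z w _ hw => rw [smul_eq_mul, map_mul, mul_smul]; exact Submodule.smul_mem _ _ hw
  have heq : ext A B I ^ (c + k) • (⊤ : Submodule B N) = ext A B I ^ k • LinearMap.range p := by
    rw [hrange, ← Submodule.mul_smul, ← pow_add, add_comm]
  refine ⟨h ∘ₗ (LinearEquiv.ofEq _ _ heq).toLinearMap, fun g hg hgk x hm => ?_⟩
  let G : A → Prop := fun g => ∀ (hg : g ∈ I ^ c) (x : N), ∃ (v : S × Fin t → B),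
    v ∈ ext A B I ^ k • (⊤ : Submodule B (S × Fin t → B)) ∧ p v = algebraMap A B g • x ∧
      ψ v = algebraMap A B (φ j ⟨g, hg⟩) • x
  have hG : G g := by
    have hg' : g ∈ I ^ k * I ^ c := by rwa [← pow_add, add_comm]
    clear hm hgk hg x
    induction hg' using Submodule.mul_induction_on' with
    | mem_mul_mem b hb a ha =>
      intro hba x
      have hv : ∃ v : S × Fin t → B, p v = algebraMap A B a • x ∧ ψ v = algebraMap A B (φ j ⟨a, ha⟩) • x := by
        have hx : x ∈ Submodule.span B (Set.range gen) := hgen.symm ▸ Submodule.mem_top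
        obtain ⟨w, hw⟩ := (Submodule.mem_span_range_iff_exists_fun B).1 hx
        suffices ∀ (ha : a ∈ I ^ c), ∃ v : S × Fin t → B, p v = algebraMap A B a • x ∧
          ψ v = algebraMap A B (φ j ⟨a, ha⟩) • x from this ha
        have ha' : a ∈ Submodule.span A (S : Set A) := hS.symm ▸ ha
        clear ha hba
        induction ha' using Submodule.span_induction with
        | mem z hz =>
          intro hz'
          refine ⟨∑ l, w l • Pi.single (⟨z, hz⟩, l) 1, ?_, ?_⟩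
          · simp only [map_sum, map_smul, p, Fintype.linearCombination_apply_single, one_smul, ← hw, Finset.smul_sum]
            exact Finset.sum_congr rfl fun l _ => smul_comm _ _ _
          · simp only [map_sum, map_smul, ψ, Fintype.linearCombination_apply_single, one_smul, ← hw, Finset.smul_sum]
            exact Finset.sum_congr rfl fun l _ => smul_comm _ _ _
        | zero =>
          intro h0
          exact ⟨0, by simp, by simp [show (⟨0, h0⟩ : ↥(I ^ c)) = 0 from rfl]⟩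
        | add y z hy hz iy iz =>
          intro hyz
          obtain ⟨v, hv1, hv2⟩ := iy (hS.le hy)
          obtain ⟨v', hv1', hv2'⟩ := iz (hS.le hz)
          exact ⟨v + v', by rw [map_add, hv1, hv1', map_add, add_smul], by
            rw [map_add, hv2, hv2', show (⟨y + z, hyz⟩ : ↥(I ^ c)) = ⟨y, hS.le hy⟩ + ⟨z, hS.le hz⟩ from rfl,
              map_add, map_add, add_smul]⟩
        | smul b y hy iy =>
          intro hby
          obtain ⟨v, hv1, hv2⟩ := iy (hS.le hy)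
          exact ⟨algebraMap A B b • v, by rw [map_smul, hv1, smul_smul, ← map_mul, smul_eq_mul], by
            rw [map_smul, hv2, show (⟨b • y, hby⟩ : ↥(I ^ c)) = b • ⟨y, hS.le hy⟩ from rfl,
              map_smul, smul_smul, ← map_mul, smul_eq_mul]⟩
      obtain ⟨v, hv1, hv2⟩ := hv
      refine ⟨algebraMap A B b • v, Submodule.smul_mem_smul ?_ Submodule.mem_top, ?_, ?_⟩
      · rw [ext, ← Ideal.map_pow]
        exact Ideal.mem_map_of_mem _ hb
      · rw [map_smul, hv1, smul_smul, ← map_mul]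
      · rw [map_smul, hv2, show (⟨b * a, hba⟩ : ↥(I ^ c)) = b • ⟨a, ha⟩ from rfl,
          map_smul, smul_smul, ← map_mul, smul_eq_mul]
    | add y hy z hz iy iz =>
      intro hyz x
      obtain ⟨v, hv0, hv1, hv2⟩ := iy (Ideal.mul_le_right hy) x
      obtain ⟨v', hv0', hv1', hv2'⟩ := iz (Ideal.mul_le_right hz) x
      exact ⟨v + v', add_mem hv0 hv0', by rw [map_add, hv1, hv1', map_add, add_smul], by
        rw [map_add, hv2, hv2', show (⟨y + z, hyz⟩ : ↥(I ^ c)) = ⟨y, Ideal.mul_le_right hy⟩ + ⟨z, Ideal.mul_le_right hz⟩ from rfl,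
          map_add, map_add, add_smul]⟩
  obtain ⟨v, hv0, hv1, hv2⟩ := hG hg x
  rw [← hv2, ← hh v hv0 (by rw [hv1, ← heq]; exact hm)]
  exact congrArg h (Subtype.ext hv1.symm)

theorem psi_mem {c' n : ℕ} (h' : ↥(ext A B I ^ c' • (⊤ : Submodule B N)) →ₗ[B] N) (y : N)
    (hy : y ∈ ext A B I ^ ((n + 1) * c') • (⊤ : Submodule B N)) (h : y ∈ ext A B I ^ c' • (⊤ : Submodule B N)) :
    h' ⟨y, h⟩ ∈ ext A B I ^ (n * c') • (⊤ : Submodule B N) := by
  have hy' : y ∈ ext A B I ^ (n * c') • (ext A B I ^ c' • (⊤ : Submodule B N)) := by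
    rwa [← Submodule.mul_smul, ← pow_add, show n * c' + c' = (n + 1) * c' by ring]
  have hle : ext A B I ^ (n * c') • (ext A B I ^ c' • (⊤ : Submodule B N)) ≤ ext A B I ^ c' • ⊤ :=
    Submodule.smul_le_right
  clear hy
  induction hy' using Submodule.smul_induction_on' with
  | smul b hb z hz =>
    rw [show (⟨b • z, h⟩ : ↥(ext A B I ^ c' • (⊤ : Submodule B N))) = b • ⟨z, hz⟩ from rfl, map_smul]
    exact Submodule.smul_mem_smul hb Submodule.mem_top
  | add z hz w hw iz iw =>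
    rw [show (⟨z + w, h⟩ : ↥(ext A B I ^ c' • (⊤ : Submodule B N))) = ⟨z, hle hz⟩ + ⟨w, hle hw⟩ from rfl, map_add]
    exact add_mem (iz _) (iw _)

/-- Lowering the power by one step. -/
def psiRes {c' : ℕ} (h' : ↥(ext A B I ^ c' • (⊤ : Submodule B N)) →ₗ[B] N) (n : ℕ) :
    ↥(ext A B I ^ ((n + 1) * c') • (⊤ : Submodule B N)) →ₗ[B] ↥(ext A B I ^ (n * c') • (⊤ : Submodule B N)) :=
  (h' ∘ₗ Submodule.inclusion (Submodule.smul_mono_left (le_c (I := ext A B I) (c := c') n))).codRestrict _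
    fun y => psi_mem h' y.1 y.2 _

/-- The module version of the graded map. -/
def Psi (c' : ℕ) (ψ : Fin r → (↥(ext A B I ^ c' • (⊤ : Submodule B N)) →ₗ[B] N)) :
    (n : ℕ) → ↥(ext A B I ^ (n * c') • (⊤ : Submodule B N)) →ₗ[B] MvPolynomial (Fin r) B ⊗[B] N
  | 0 => TensorProduct.mk B (MvPolynomial (Fin r) B) N 1 ∘ₗ Submodule.subtype _
  | n + 1 => ∑ j, LinearMap.rTensor N (LinearMap.mulLeft B (MvPolynomial.X j)) ∘ₗ Psi c' ψ n ∘ₗ psiRes (ψ j) n

theorem Psi_succ (c' : ℕ) (ψ : Fin r → (↥(ext A B I ^ c' • (⊤ : Submodule B N)) →ₗ[B] N)) (n : ℕ)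
    (y : ↥(ext A B I ^ ((n + 1) * c') • (⊤ : Submodule B N))) :
    Psi c' ψ (n + 1) y = ∑ j, LinearMap.rTensor N (LinearMap.mulLeft B (MvPolynomial.X j)) (Psi c' ψ n (psiRes (ψ j) n y)) := by
  rw [Psi, LinearMap.sum_apply]
  rfl

theorem Psi_smul {c' : ℕ} (φ' : Fin r → (↥(I ^ c') →ₗ[A] A))
    (ψ : Fin r → (↥(ext A B I ^ c' • (⊤ : Submodule B N)) →ₗ[B] N))
    (hψ : ∀ (j : Fin r) (g : A) (hg : g ∈ I ^ c') (x : N) (hm : algebraMap A B g • x ∈ ext A B I ^ c' • (⊤ : Submodule B N)),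
      ψ j ⟨algebraMap A B g • x, hm⟩ = algebraMap A B (φ' j ⟨g, hg⟩) • x) :
    ∀ (n : ℕ) (g : A) (hg : g ∈ I ^ (n * c')) (x : N) (hm : algebraMap A B g • x ∈ ext A B I ^ (n * c') • (⊤ : Submodule B N)),
      Psi c' ψ n ⟨algebraMap A B g • x, hm⟩ = MvPolynomial.map (algebraMap A B) (P φ' n ⟨g, hg⟩) ⊗ₜ[B] x
  | 0, g, hg, x, hm => by
    show (1 : MvPolynomial (Fin r) B) ⊗ₜ[B] (algebraMap A B g • x) = _
    rw [TensorProduct.tmul_smul, TensorProduct.smul_tmul']
    congr 1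
    show algebraMap A B g • (1 : MvPolynomial (Fin r) B) = MvPolynomial.map (algebraMap A B) (MvPolynomial.C g)
    rw [MvPolynomial.map_C, MvPolynomial.smul_eq_C_mul, mul_one]
  | n + 1, g, hg, x, hm => by
    rw [Psi_succ, P_succ, map_sum, TensorProduct.sum_tmul]
    refine Finset.sum_congr rfl fun j _ => ?_
    have hmem : algebraMap A B (phiRes φ' j n ⟨g, hg⟩).1 • x ∈ ext A B I ^ (n * c') • (⊤ : Submodule B N) :=
      Submodule.smul_mem_smul (by rw [ext, ← Ideal.map_pow]; exact Ideal.mem_map_of_mem _ (phiRes φ' j n ⟨g, hg⟩).2) Submodule.mem_top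
    have h1 := Psi_smul φ' ψ hψ n (phiRes φ' j n ⟨g, hg⟩).1 (phiRes φ' j n ⟨g, hg⟩).2 x hmem
    have h2 : psiRes (ψ j) n ⟨algebraMap A B g • x, hm⟩ = ⟨_, hmem⟩ := Subtype.ext (hψ j g (le_c n hg) x _)
    rw [h2, h1, LinearMap.rTensor_tmul, map_mul, MvPolynomial.map_X]
    rfl

theorem lift_Psi {c' : ℕ} (φ' : Fin r → (↥(I ^ c') →ₗ[A] A)) (f : Fin r → A)
    (hφ' : ∀ x : ↥(I ^ c'), (x : A) = ∑ j, f j * φ' j x)
    (ψ : Fin r → (↥(ext A B I ^ c' • (⊤ : Submodule B N)) →ₗ[B] N))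
    (hψ : ∀ (j : Fin r) (g : A) (hg : g ∈ I ^ c') (x : N) (hm : algebraMap A B g • x ∈ ext A B I ^ c' • (⊤ : Submodule B N)),
      ψ j ⟨algebraMap A B g • x, hm⟩ = algebraMap A B (φ' j ⟨g, hg⟩) • x)
    (n : ℕ) (y : N) (hy : y ∈ ext A B I ^ (n * c') • (⊤ : Submodule B N)) :
    TensorProduct.lift ((LinearMap.lsmul B N).comp (MvPolynomial.aeval fun j => algebraMap A B (f j)).toLinearMap)
      (Psi c' ψ n ⟨y, hy⟩) = y := by
  have hy' : y ∈ Submodule.span B {z : N | ∃ g ∈ I ^ (n * c'), ∃ x : N, z = algebraMap A B g • x} :=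
    (span_set_eq (n * c')).ge hy
  suffices ∀ hy : y ∈ ext A B I ^ (n * c') • (⊤ : Submodule B N),
    TensorProduct.lift ((LinearMap.lsmul B N).comp (MvPolynomial.aeval fun j => algebraMap A B (f j)).toLinearMap)
      (Psi c' ψ n ⟨y, hy⟩) = y from this hy
  clear hy
  induction hy' using Submodule.span_induction with
  | mem z hz =>
    obtain ⟨g, hg, x, rfl⟩ := hz
    intro hy
    rw [Psi_smul φ' ψ hψ n g hg x hy, TensorProduct.lift.tmul]
    show MvPolynomial.aeval (fun j => algebraMap A B (f j)) (MvPolynomial.map (algebraMap A B) (P φ' n ⟨g, hg⟩)) • x = _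
    rw [MvPolynomial.aeval_map_algebraMap, show (fun j => algebraMap A B (f j)) = algebraMap A B ∘ f from rfl,
      MvPolynomial.aeval_algebraMap_apply, aeval_P φ' f hφ' n]
  | zero => intro h; rw [show (⟨0, h⟩ : ↥(ext A B I ^ (n * c') • (⊤ : Submodule B N))) = 0 from rfl, map_zero, map_zero]
  | add z w hz hw iz iw =>
    intro h
    have hz' := (span_set_eq (n * c')).le hz
    have hw' := (span_set_eq (n * c')).le hw
    rw [show (⟨z + w, h⟩ : ↥(ext A B I ^ (n * c') • (⊤ : Submodule B N))) = ⟨z, hz'⟩ + ⟨w, hw'⟩ from rfl,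
      map_add, map_add, iz hz', iw hw']
  | smul b z hz iz =>
    intro h
    have hz' := (span_set_eq (n * c')).le hz
    rw [show (⟨b • z, h⟩ : ↥(ext A B I ^ (n * c') • (⊤ : Submodule B N))) = b • ⟨z, hz'⟩ from rfl,
      map_smul, map_smul, iz hz']

end Module

end IdealTransLib
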