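import Groth.Agent.CanonModLib.Additive
import Groth.Agent.LocCohLib.Finiteness
import Groth.Agent.HLVTLib.Vanish

/-!
# The top local cohomology functor is tensoring with its value on the ring
-/

set_option autoImplicit false
set_option linter.style.haveILetI false
set_option linter.unusedSectionVars false
set_option maxHeartbeats 400000

universe u

open CategoryTheory CategoryTheory.Limits LocCohLib
open scoped TensorProduct

noncomputable section

namespace TopTensor

variable {R : Type u} [CommRing R] (I : Ideal R) (d : ℕ)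
variable {M N P : Type u} [AddCommGroup M] [Module R M] [AddCommGroup N] [Module R N] [AddCommGroup P] [Module R P]

theorem hf_add (f g : M →ₗ[R] N) (y : LocCoh.H I d M) : Hf I d (f + g) y = Hf I d f y + Hf I d g y := by
  haveI := additive_localCohomology I d
  show ((localCohomology I d).map (ModuleCat.ofHom (f + g))).hom y = _
  rw [show ModuleCat.ofHom (f + g) = ModuleCat.ofHom f + ModuleCat.ofHom g from rfl, Functor.map_add]
  rfl

theorem hf_smul (r : R) (f : M →ₗ[R] N) (y : LocCoh.H I d M) : Hf I d (r • f) y = r • Hf I d f y :=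
  (congrArg (fun φ => Hf I d φ y) (show r • f = (r • LinearMap.id : N →ₗ[R] N) ∘ₗ f from rfl)).trans
    ((Hf_comp d _ _ y).trans (Hf_smul_id r d _))

theorem hf_id (y : LocCoh.H I d M) : Hf I d (LinearMap.id : M →ₗ[R] M) y = y :=
  (congrArg (fun φ => Hf I d φ y) (one_smul R (LinearMap.id : M →ₗ[R] M)).symm).trans
    ((Hf_smul_id 1 d y).trans (one_smul R y))

/-- `h ⊗ m ↦ H^d(R → M, 1 ↦ m)(h)`. -/
def η (M : Type u) [AddCommGroup M] [Module R M] : LocCoh.H I d R ⊗[R] M →ₗ[R] LocCoh.H I d M :=
  TensorProduct.lift <| LinearMap.mk₂ R (fun h m => Hf I d (LinearMap.toSpanSingleton R M m) h)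
    (fun h h' m => map_add _ _ _) (fun r h m => map_smul _ _ _)
    (fun h m m' => by
      rw [show LinearMap.toSpanSingleton R M (m + m') =
        LinearMap.toSpanSingleton R M m + LinearMap.toSpanSingleton R M m' from LinearMap.ext_ring (by simp), hf_add])
    (fun r h m => by
      rw [show LinearMap.toSpanSingleton R M (r • m) = r • LinearMap.toSpanSingleton R M m from
        LinearMap.ext_ring (by simp), hf_smul])

theorem η_tmul (h : LocCoh.H I d R) (m : M) : η I d M (h ⊗ₜ[R] m) = Hf I d (LinearMap.toSpanSingleton R M m) h :=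
  rfl

theorem η_natural (π : M →ₗ[R] N) (t : LocCoh.H I d R ⊗[R] M) :
    η I d N (π.lTensor _ t) = Hf I d π (η I d M t) := by
  induction t using TensorProduct.induction_on with
  | zero => simp
  | add a b ha hb => rw [map_add, map_add, map_add, map_add, ha, hb]
  | tmul h m =>
    rw [LinearMap.lTensor_tmul, η_tmul, η_tmul, ← Hf_comp,
      show LinearMap.toSpanSingleton R N (π m) = π ∘ₗ LinearMap.toSpanSingleton R M m from LinearMap.ext_ring (by simp)]

theorem η_ring (t : LocCoh.H I d R ⊗[R] R) : η I d R t = TensorProduct.rid R _ t := by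
  induction t using TensorProduct.induction_on with
  | zero => simp
  | add a b ha hb => rw [map_add, map_add, ha, hb]
  | tmul h r =>
    rw [η_tmul, TensorProduct.rid_tmul,
      show LinearMap.toSpanSingleton R R r = r • LinearMap.id from LinearMap.ext_ring (by simp), Hf_smul_id]

/-- A map which splits through finitely many copies of `R`. -/
theorem sum_split {n : ℕ} (y : LocCoh.H I d (Fin n → R)) :
    η I d (Fin n → R)
      (∑ i, (Hf I d (LinearMap.proj i : (Fin n → R) →ₗ[R] R) y) ⊗ₜ[R] (Pi.single i (1 : R) : Fin n → R)) = y := by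
  classical
  have hsum : ∀ (s : Finset (Fin n)) (f : Fin n → (Fin n → R) →ₗ[R] (Fin n → R)),
      Hf I d (∑ i ∈ s, f i) y = ∑ i ∈ s, Hf I d (f i) y := by
    intro s f
    induction s using Finset.induction with
    | empty =>
      rw [Finset.sum_empty, Finset.sum_empty, ← zero_smul R (LinearMap.id : (Fin n → R) →ₗ[R] (Fin n → R)),
        Hf_smul_id, zero_smul]
    | insert a s ha ih => rw [Finset.sum_insert ha, Finset.sum_insert ha, hf_add, ih]
  rw [map_sum]
  simp_rw [η_tmul, ← Hf_comp]
  rw [← hsum]
  conv_rhs => rw [← hf_id I d y]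
  refine congrArg (fun φ => Hf I d φ y) (LinearMap.ext fun c => ?_)
  rw [LinearMap.sum_apply]
  conv_rhs => rw [LinearMap.id_apply, pi_eq_sum_univ' c]
  rfl

theorem inverse_left {n : ℕ} (t : LocCoh.H I d R ⊗[R] (Fin n → R)) :
    (∑ i, (Hf I d (LinearMap.proj i : (Fin n → R) →ₗ[R] R) (η I d _ t)) ⊗ₜ[R] (Pi.single i (1 : R) : Fin n → R)) =
      t := by
  classical
  simp_rw [← η_natural, η_ring]
  induction t using TensorProduct.induction_on with
  | zero => simp
  | add a b ha hb => simp only [map_add, TensorProduct.add_tmul, Finset.sum_add_distrib, ha, hb]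
  | tmul h c =>
    simp only [LinearMap.lTensor_tmul, LinearMap.proj_apply, TensorProduct.rid_tmul]
    conv_rhs => rw [pi_eq_sum_univ' c, TensorProduct.tmul_sum]
    exact Finset.sum_congr rfl fun i _ => by rw [TensorProduct.smul_tmul]

theorem bijective_pi (n : ℕ) : Function.Bijective (η I d (Fin n → R)) :=
  ⟨fun a b hab => by rw [← inverse_left I d a, ← inverse_left I d b, hab],
    fun y => ⟨_, sum_split I d y⟩⟩

variable [IsNoetherianRing R]

/-- Classes come from a member of a directed cover. -/
theorem exists_of_directed {Λ : Type u} [PartialOrder Λ] [IsDirected Λ (· ≤ ·)] [Nonempty Λ]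
    (S : Λ → Submodule R M) (hmono : Monotone S) (hsup : ∀ m : M, ∃ l, m ∈ S l) (y : LocCoh.H I d M) :
    ∃ (l : Λ) (z : LocCoh.H I d (S l)), Hf I d (S l).subtype z = y := by
  let F : Λ ⥤ ModuleCat.{u} R :=
    { obj := fun l => ModuleCat.of R (S l)
      map := fun {a b} f => ModuleCat.ofHom (Submodule.inclusion (hmono (leOfHom f)))
      map_id := fun l => rfl
      map_comp := fun f g => rfl }
  let c : Cocone F := Cocone.mk (ModuleCat.of R M)
    { app := fun l => ModuleCat.ofHom (S l).subtype
      naturality := fun a b f => rfl }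
  have hd : ∀ l (x : S l), colimit.desc F c (colimit.ι F l x) = (x : M) := fun l x =>
    ConcreteCategory.congr_hom (colimit.ι_desc c l) x
  haveI : IsIso (colimit.desc F c) := by
    rw [ConcreteCategory.isIso_iff_bijective]
    refine ⟨(injective_iff_map_eq_zero _).2 fun z hz => ?_, fun m => ?_⟩
    · obtain ⟨l, x, rfl⟩ := Concrete.colimit_exists_rep F z
      rw [show x = 0 from Subtype.ext ((hd l x).symm.trans hz), map_zero]
    · obtain ⟨l, hl⟩ := hsup m
      exact ⟨colimit.ι F l (⟨m, hl⟩ : S l), hd l ⟨m, hl⟩⟩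
  obtain ⟨v, hv⟩ := (ConcreteCategory.bijective_of_isIso ((localCohomology I d).map (colimit.desc F c))).2 y
  obtain ⟨w, rfl⟩ := (bijective_post I d F).2 v
  obtain ⟨l, z, rfl⟩ := Concrete.colimit_exists_rep (F ⋙ localCohomology I d) w
  refine ⟨l, z, ?_⟩
  rw [post_apply] at hv
  rw [← hv, ← ConcreteCategory.comp_apply, ← Functor.map_comp, colimit.ι_desc]

theorem bijective_free (X : Type u) : Function.Bijective (η I d (X →₀ R)) := by
  classical
  let j : ∀ s : Finset X, Finsupp.supported R R (s : Set X) →ₗ[R] (X →₀ R) := fun s => Submodule.subtype _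
  let e : ∀ s : Finset X, (Fin (Fintype.card (s : Set X)) → R) ≃ₗ[R] Finsupp.supported R R (s : Set X) := fun s =>
    ((LinearEquiv.funCongrLeft R R (Fintype.equivFin (s : Set X))).trans
      (Finsupp.linearEquivFunOnFinite R R (s : Set X)).symm).trans (Finsupp.supportedEquivFinsupp _).symm
  let ι : ∀ s : Finset X, (Fin (Fintype.card (s : Set X)) → R) →ₗ[R] (X →₀ R) := fun s => j s ∘ₗ (e s).toLinearMap
  let π : ∀ s : Finset X, (X →₀ R) →ₗ[R] (Fin (Fintype.card (s : Set X)) → R) := fun s =>
    (e s).symm.toLinearMap ∘ₗ Finsupp.restrictDom R R (s : Set X)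
  have hπι : ∀ s, π s ∘ₗ ι s = LinearMap.id := fun s => LinearMap.ext fun c => by
    refine (e s).injective (Subtype.ext ?_)
    show ((e s) ((e s).symm (Finsupp.restrictDom R R (s : Set X) (e s c : X →₀ R)))).1 = (e s c).1
    rw [LinearEquiv.apply_symm_apply]
    exact (Finsupp.filter_eq_self_iff _ _).2 fun a ha => (Finsupp.mem_supported R _).1 (e s c).2
      (Finsupp.mem_support_iff.2 ha)
  refine ⟨(injective_iff_map_eq_zero _).2 fun t ht => ?_, fun y => ?_⟩
  · have key : ∀ t : LocCoh.H I d R ⊗[R] (X →₀ R), ∃ (s : Finset X)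
        (w : LocCoh.H I d R ⊗[R] (Fin (Fintype.card (s : Set X)) → R)), (ι s).lTensor _ w = t := by
      intro t
      obtain ⟨S, rfl⟩ := TensorProduct.exists_finset t
      let s : Finset X := S.biUnion fun p => p.2.support
      refine ⟨s, ∑ p ∈ S.attach, p.1.1 ⊗ₜ[R] (π s p.1.2), ?_⟩
      rw [map_sum]
      conv_rhs => rw [← Finset.sum_attach]
      refine Finset.sum_congr rfl fun p _ => ?_
      rw [LinearMap.lTensor_tmul]
      congr 1
      show ((e s) ((e s).symm (Finsupp.restrictDom R R (s : Set X) p.1.2))).1 = p.1.2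
      rw [LinearEquiv.apply_symm_apply]
      exact (Finsupp.filter_eq_self_iff _ _).2 fun a ha =>
        Finset.mem_coe.2 (Finset.mem_biUnion.2 ⟨p.1, p.2, Finsupp.mem_support_iff.2 ha⟩)
    obtain ⟨s, w, rfl⟩ := key t
    rw [η_natural] at ht
    have h := congrArg (Hf I d (π s)) ht
    rw [← Hf_comp, hπι, hf_id, map_zero] at h
    rw [(bijective_pi I d _).1 (h.trans (map_zero (η I d _)).symm), map_zero]
  · obtain ⟨s, z, rfl⟩ := exists_of_directed I d (Λ := Finset X) (fun s => Finsupp.supported R R (s : Set X))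
      (fun a b hab => Finsupp.supported_mono (Finset.coe_subset.2 hab))
      (fun m => ⟨m.support, (Finsupp.mem_supported R _).2 subset_rfl⟩) y
    obtain ⟨w, hw⟩ := (bijective_pi I d _).2 (Hf I d (e s).symm.toLinearMap z)
    refine ⟨(ι s).lTensor _ w, ?_⟩
    rw [η_natural, hw, ← Hf_comp]
    congr 2
    exact LinearMap.ext fun v => congrArg Subtype.val ((e s).apply_symm_apply v)

variable {I d}

theorem surjective_hf (hd : ringKrullDim R ≤ d) (π : M →ₗ[R] N) (hπ : Function.Surjective π) :
    Function.Surjective (Hf I d π) := fun y => by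
  haveI : Subsingleton (LocCoh.H I (d + 1) (LinearMap.ker π)) :=
    HLVTLib.subsingleton_H_of_dim_lt (lt_of_le_of_lt hd (by exact_mod_cast Nat.lt_succ_self d)) _
  exact ((exact_Hδ (Submodule.injective_subtype _) (LinearMap.exact_subtype_ker_map π) hπ d).2 y).1
    (Subsingleton.elim _ _)

theorem bijective_η (hd : ringKrullDim R ≤ d) (M : Type u) [AddCommGroup M] [Module R M] :
    Function.Bijective (η I d M) := by
  let p := Finsupp.linearCombination R (id : M → M)
  have hp : Function.Surjective p := Finsupp.linearCombination_id_surjective R M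
  let q := Finsupp.linearCombination R (id : LinearMap.ker p → LinearMap.ker p)
  have hq : Function.Surjective q := Finsupp.linearCombination_id_surjective R _
  let ρ := (LinearMap.ker p).subtype ∘ₗ q
  refine ⟨(injective_iff_map_eq_zero _).2 fun t ht => ?_, fun y => ?_⟩
  · obtain ⟨t', rfl⟩ := LinearMap.lTensor_surjective _ hp t
    rw [η_natural] at ht
    obtain ⟨k, hk⟩ := (exact_Hf (Submodule.injective_subtype _) (LinearMap.exact_subtype_ker_map p) hp d _).1 ht
    obtain ⟨s, rfl⟩ := surjective_hf hd q hq k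
    obtain ⟨u, rfl⟩ := (bijective_free I d _).2 s
    rw [← Hf_comp, ← η_natural] at hk
    rw [← (bijective_free I d _).1 hk, ← LinearMap.lTensor_comp_apply,
      show p ∘ₗ (LinearMap.ker p).subtype ∘ₗ q = 0 from LinearMap.ext fun v => (q v).2, LinearMap.lTensor_zero,
      LinearMap.zero_apply]
  · obtain ⟨y', rfl⟩ := surjective_hf hd p hp y
    obtain ⟨t, rfl⟩ := (bijective_free I d _).2 y'
    exact ⟨p.lTensor _ t, η_natural I d p t⟩

end TopTensor
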